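import Cfsg.Agent.Coprime.Sylow
import Cfsg.Agent.Coprime.Action
import Cfsg.Agent.PGroups.Basic

/-!
The subgroups `[h, P]` for a cyclic group `P = ⟨x⟩` of operators, and the subgroup they cut out on
the fixed points.
-/

set_option autoImplicit false
set_option linter.style.haveILetI false
set_option linter.unusedSectionVars false

namespace Cfsg.Lib.Flavell

open Subgroup Cfsg.Lib.Coprime
open scoped commutatorElement

universe u

variable {G : Type u} [Group G]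

/-- the fixed points -/
abbrev cent (x : G) : Subgroup G := centralizer (zpowers x : Set G)

/-- `[h, ⟨x⟩]` -/
def cm (x h : G) : Subgroup G := closure {c | ∃ i : ℕ, c = h⁻¹ * (x ^ i * h * (x ^ i)⁻¹)}

/-- the fixed points of the subgroups `[h, ⟨x⟩]`, `h ∈ H` -/
def D (x : G) (H : Subgroup G) : Subgroup G := ⨆ h ∈ H, cm x h ⊓ cent x

theorem mem_cent {x g : G} : g ∈ cent x ↔ x * g = g * x := by
  constructor
  · intro h; exact mem_centralizer_iff.1 h x (mem_zpowers x)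
  · intro h
    refine mem_centralizer_iff.2 fun y hy => ?_
    obtain ⟨k, rfl⟩ := mem_zpowers_iff.1 hy
    exact (Commute.zpow_left h k).eq

theorem gen_mem (x h : G) (i : ℕ) : h⁻¹ * (x ^ i * h * (x ^ i)⁻¹) ∈ cm x h :=
  subset_closure ⟨i, rfl⟩

theorem zpowers_le_normalizer {x : G} {K : Subgroup G} (hx : x ∈ normalizer (K : Set G)) :
    zpowers x ≤ normalizer (K : Set G) := zpowers_le.2 hx

theorem pow_conj_mem {x h : G} {K : Subgroup G} (hx : x ∈ normalizer (K : Set G)) (hh : h ∈ K) (i : ℕ) :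
    x ^ i * h * (x ^ i)⁻¹ ∈ K :=
  (mem_normalizer_iff.1 (pow_mem hx i) h).1 hh

theorem cm_le {x h : G} {K : Subgroup G} (hx : x ∈ normalizer (K : Set G)) (hh : h ∈ K) :
    cm x h ≤ K := by
  rw [cm, closure_le]
  rintro c ⟨i, rfl⟩
  exact mul_mem (inv_mem hh) (pow_conj_mem hx hh i)

theorem cm_le_commutator {x h : G} {K : Subgroup G} (hh : h ∈ K) : cm x h ≤ ⁅K, zpowers x⁆ := by
  rw [cm, closure_le]
  rintro c ⟨i, rfl⟩
  have : h⁻¹ * (x ^ i * h * (x ^ i)⁻¹) = ⁅h⁻¹, x ^ i⁆ := by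
    simp [commutatorElement_def, mul_assoc]
  rw [this]
  exact commutator_mem_commutator (inv_mem hh) (pow_mem (mem_zpowers x) i)

theorem conj_cm_le {x : G} (h : G) (hfin : IsOfFinOrder x) :
    x ∈ normalizer (cm x h : Set G) := by
  have key : ∀ j : ℕ, ∀ c ∈ cm x h, x ^ j * c * (x ^ j)⁻¹ ∈ cm x h := by
    intro j
    have : cm x h ≤ (cm x h).comap (MulAut.conj (x ^ j)).toMonoidHom := by
      conv_lhs => rw [cm]
      rw [closure_le]
      rintro c ⟨i, rfl⟩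
      show x ^ j * (h⁻¹ * (x ^ i * h * (x ^ i)⁻¹)) * (x ^ j)⁻¹ ∈ cm x h
      have : x ^ j * (h⁻¹ * (x ^ i * h * (x ^ i)⁻¹)) * (x ^ j)⁻¹ =
          (h⁻¹ * (x ^ j * h * (x ^ j)⁻¹))⁻¹ * (h⁻¹ * (x ^ (j + i) * h * (x ^ (j + i))⁻¹)) := by
        rw [pow_add]; group
      rw [this]
      exact mul_mem (inv_mem (gen_mem x h j)) (gen_mem x h _)
    exact fun c hc => this hc
  refine mem_normalizer_of_conj_mem (fun c hc => by simpa using key 1 c hc) fun c hc => ?_
  obtain ⟨j, hj⟩ : ∃ j : ℕ, x ^ j = x⁻¹ :=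
    mem_powers_iff_mem_zpowers' hfin |>.2 (inv_mem (mem_zpowers x))
  have := key j c hc
  rwa [hj, inv_inv] at this
where
  mem_powers_iff_mem_zpowers' {x y : G} (hx : IsOfFinOrder x) :
      (∃ j : ℕ, x ^ j = y) ↔ y ∈ zpowers x := by
    rw [← hx.mem_powers_iff_mem_zpowers, Submonoid.mem_powers_iff]

theorem conj_cm {x c : G} (hc : c ∈ cent x) (h : G) :
    (cm x h).map (MulAut.conj c).toMonoidHom = cm x (c * h * c⁻¹) := by
  rw [cm, cm, MonoidHom.map_closure]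
  congr 1
  have e : ∀ i : ℕ, c * (h⁻¹ * (x ^ i * h * (x ^ i)⁻¹)) * c⁻¹
      = (c * h * c⁻¹)⁻¹ * (x ^ i * (c * h * c⁻¹) * (x ^ i)⁻¹) := by
    intro i
    have hx : x ^ i * c = c * x ^ i := mem_centralizer_iff.1 hc _ (pow_mem (mem_zpowers x) i)
    calc c * (h⁻¹ * (x ^ i * h * (x ^ i)⁻¹)) * c⁻¹
        = (c * h * c⁻¹)⁻¹ * ((c * x ^ i) * h * (c * x ^ i)⁻¹) := by group
      _ = (c * h * c⁻¹)⁻¹ * ((x ^ i * c) * h * (x ^ i * c)⁻¹) := by rw [hx]
      _ = _ := by group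
  ext y
  constructor
  · rintro ⟨_, ⟨i, rfl⟩, rfl⟩
    exact ⟨i, e i⟩
  · rintro ⟨i, rfl⟩
    exact ⟨_, ⟨i, rfl⟩, e i⟩

theorem inf_le_D {x h : G} {H : Subgroup G} (hh : h ∈ H) : cm x h ⊓ cent x ≤ D x H :=
  le_iSup₂ (f := fun h (_ : h ∈ H) => cm x h ⊓ cent x) h hh

theorem D_mono {x : G} {K H : Subgroup G} (h : K ≤ H) : D x K ≤ D x H :=
  iSup₂_le fun _ hk => inf_le_D (h hk)

theorem D_le {x : G} {H : Subgroup G} (hx : x ∈ normalizer (H : Set G)) : D x H ≤ H ⊓ cent x :=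
  iSup₂_le fun _ hh => inf_le_inf_right _ (cm_le hx hh)

theorem D_normalized {x : G} (H : Subgroup G) {c : G}
    (hc : c ∈ H ⊓ cent x) : c ∈ normalizer (D x H : Set G) := by
  have key : ∀ c ∈ H ⊓ cent x, ∀ d ∈ D x H, c * d * c⁻¹ ∈ D x H := by
    intro c hc
    have : D x H ≤ (D x H).comap (MulAut.conj c).toMonoidHom := by
      refine iSup₂_le fun h hh => ?_
      rintro d ⟨hd, hdc⟩
      show c * d * c⁻¹ ∈ D x H
      refine inf_le_D (mul_mem (mul_mem hc.1 hh) (inv_mem hc.1)) ⟨?_, ?_⟩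
      · rw [← conj_cm hc.2]; exact ⟨d, hd, rfl⟩
      · exact (cent x).mul_mem ((cent x).mul_mem hc.2 hdc) ((cent x).inv_mem hc.2)
    exact fun d hd => this hd
  exact mem_normalizer_of_conj_mem (key c hc) fun d hd => by simpa using key c⁻¹ (inv_mem hc) d hd

theorem map_cent_le {G' : Type*} [Group G'] (f : G →* G') (x : G) : (cent x).map f ≤ cent (f x) := by
  rintro _ ⟨c, hc, rfl⟩
  rw [mem_cent, ← map_mul, mem_cent.1 hc, map_mul]

theorem map_cm {G' : Type*} [Group G'] (f : G →* G') (x h : G) : (cm x h).map f = cm (f x) (f h) := by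
  rw [cm, cm, MonoidHom.map_closure]
  congr 1
  ext y
  constructor
  · rintro ⟨_, ⟨i, rfl⟩, rfl⟩; exact ⟨i, by simp⟩
  · rintro ⟨i, rfl⟩; exact ⟨_, ⟨i, rfl⟩, by simp⟩

section finite

variable [Finite G] {x : G} {p : ℕ}

/-- a standing hypothesis on the operators and the group -/
structure Hyp (x : G) (H : Subgroup G) : Prop where
  norm : x ∈ normalizer (H : Set G)
  cop : (Nat.card (zpowers x)).Coprime (Nat.card H)
  sol : Group.IsSolvable H

theorem Hyp.mono {H K : Subgroup G} (h : Hyp x H) (hle : K ≤ H) (hK : x ∈ normalizer (K : Set G)) :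
    Hyp x K :=
  ⟨hK, coprime_of_le hle h.cop, isSolvable_of_le hle h.sol⟩

theorem solA : Group.IsSolvable (zpowers x) :=
  Group.isSolvable_of_comm fun a b => mul_comm' a b

/-- an element whose `[k, P]` lies in an invariant `L` differs from a fixed point by an element of `L` -/
theorem exists_fixed {L : Subgroup G} (hL : x ∈ normalizer (L : Set G))
    (hcop : (Nat.card (zpowers x)).Coprime (Nat.card L)) {k : G} (hk : cm x k ≤ L) :
    ∃ d ∈ L, k * d ∈ cent x := by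
  refine exists_fixed_in_coset (zpowers_le_normalizer hL) hcop (Or.inl solA) fun a ha => ?_
  obtain ⟨i, rfl⟩ := (conj_cm_le.mem_powers_iff_mem_zpowers' (isOfFinOrder_of_finite x)).2 ha
  have := hk (gen_mem x k i)
  simpa [mul_assoc] using this

/-- `[k, P] = [[k, P], P]` -/
theorem cm_le_cm_commutator {H : Subgroup G} (h : Hyp x H) {k : G} (hk : k ∈ H) :
    cm x k ≤ ⁅cm x k, zpowers x⁆ := by
  have hn := conj_cm_le (x := x) k (isOfFinOrder_of_finite x)
  obtain ⟨d, hd, hc⟩ := exists_fixed hn (coprime_of_le (cm_le h.norm hk) h.cop) le_rfl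
  conv_lhs => rw [cm]
  rw [closure_le]
  rintro _ ⟨i, rfl⟩
  have hx : x ^ i * (k * d) = k * d * x ^ i := mem_centralizer_iff.1 hc _ (pow_mem (mem_zpowers x) i)
  have : k⁻¹ * (x ^ i * k * (x ^ i)⁻¹) = ⁅d, x ^ i⁆ := by
    calc k⁻¹ * (x ^ i * k * (x ^ i)⁻¹) = k⁻¹ * (x ^ i * (k * d)) * d⁻¹ * (x ^ i)⁻¹ := by group
      _ = k⁻¹ * (k * d * x ^ i) * d⁻¹ * (x ^ i)⁻¹ := by rw [hx]
      _ = ⁅d, x ^ i⁆ := by rw [commutatorElement_def]; group
  rw [this]
  exact commutator_mem_commutator hd (pow_mem (mem_zpowers x) i)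

/-- `K = [K, P] C_K(P)` -/
theorem decomp {K : Subgroup G} (h : Hyp x K) : ⁅K, zpowers x⁆ ⊔ (K ⊓ cent x) = K :=
  commutator_sup_centralizer (zpowers_le_normalizer h.norm) h.cop (Or.inr h.sol)

theorem commutator_le_self {K : Subgroup G} (h : x ∈ normalizer (K : Set G)) : ⁅K, zpowers x⁆ ≤ K :=
  commutator_le_of_le_normalizer (zpowers_le_normalizer h)

theorem commutator_norm (K : Subgroup G) : x ∈ normalizer ((⁅K, zpowers x⁆ : Subgroup G) : Set G) :=
  le_normalizer_commutator_right _ K (mem_zpowers x)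

/-- no fixed points on `[V, P]` for abelian `V` -/
theorem abelian_fpf {V : Subgroup G} [IsMulCommutative V] (h : Hyp x V) :
    ⁅V, zpowers x⁆ ⊓ cent x = ⊥ := by
  rw [eq_bot_iff, ← (abelian_coprime_decomp (zpowers_le_normalizer h.norm) h.cop).1]
  exact le_inf (le_inf (inf_le_left.trans (commutator_le_self h.norm)) inf_le_right) inf_le_left

/-- the part of an abelian invariant `V` whose fixed points lie in `D` -/
def absorb (x : G) (H V : Subgroup G) : Subgroup G := ⁅V, zpowers x⁆ ⊔ (V ⊓ D x H)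

theorem absorb_le {H V : Subgroup G} (hV : x ∈ normalizer (V : Set G)) : absorb x H V ≤ V :=
  sup_le (commutator_le_self hV) inf_le_left

theorem le_absorb {H V W : Subgroup G} (hW : W ≤ V) (hWn : Hyp x W) (hfix : W ⊓ cent x ≤ D x H) :
    W ≤ absorb x H V := by
  rw [← decomp hWn]
  exact sup_le ((commutator_mono hW le_rfl).trans le_sup_left)
    ((le_inf (inf_le_left.trans hW) hfix).trans le_sup_right)

theorem conj_mem_absorb {H V : Subgroup G} {g : G} (hg : g ∈ V) {y : G} (hy : y ∈ zpowers x) :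
    y * g * y⁻¹ * g⁻¹ ∈ absorb x H V := by
  have : y * g * y⁻¹ * g⁻¹ = ⁅g, y⁆⁻¹ := by rw [commutatorElement_def]; group
  rw [this]
  exact inv_mem (mem_sup_left (commutator_mem_commutator hg hy))

theorem fixed_of_le_absorb {H V : Subgroup G} [IsMulCommutative V] (hV : Hyp x V)
    (hH : x ∈ normalizer (H : Set G)) (hle : V ⊓ cent x ≤ absorb x H V) : V ⊓ cent x ≤ D x H := by
  intro v hv
  have h1 := hle hv
  have hn : (V ⊓ D x H) ≤ normalizer ((⁅V, zpowers x⁆ : Subgroup G) : Set G) :=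
    inf_le_left.trans (le_normalizer_commutator_left _ _)
  obtain ⟨a, ha, b, hb, rfl⟩ := (mem_sup_of_le_normalizer hn).1 h1
  have hbc : b ∈ cent x := (D_le hH hb.2).2
  have : a ∈ ⁅V, zpowers x⁆ ⊓ cent x := ⟨ha, by simpa using (cent x).mul_mem hv.2 ((cent x).inv_mem hbc)⟩
  rw [abelian_fpf hV, mem_bot] at this
  rw [this, one_mul]; exact hb.2

/-- the induction hypothesis for the subgroups of `H` -/
structure Min (x : G) (H : Subgroup G) : Prop extends Hyp x H where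
  comm : ⁅H, zpowers x⁆ = H
  sub : ∀ K : Subgroup G, K < H → x ∈ normalizer (K : Set G) → ⁅K, zpowers x⁆ ⊓ cent x ≤ D x H
  quo : ∀ V : Subgroup G, V ≤ H → V ≠ ⊥ → H ≤ normalizer (V : Set G) → x ∈ normalizer (V : Set G) →
    ∀ c ∈ H ⊓ cent x, ∃ d ∈ D x H, ∃ v ∈ V, c = d * v
  nogen : ∀ h ∈ H, cm x h ≠ H

theorem Min.sub' {H : Subgroup G} (m : Min x H) {K : Subgroup G} (hK : K < H)
    (hn : x ∈ normalizer (K : Set G)) (hc : K ≤ ⁅K, zpowers x⁆) : K ⊓ cent x ≤ D x H :=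
  (inf_le_inf_right _ hc).trans (m.sub K hK hn)

/-- a quotient map defined on the normaliser -/
theorem abelian_quotient_fixed {H : Subgroup G} (h : Hyp x H) (hc : ⁅H, zpowers x⁆ = H) :
    H ⊓ cent x ≤ ⁅H, H⁆ := by
  intro c hc'
  set N := normalizer ((⁅H, H⁆ : Subgroup G) : Set G) with hN
  have hHN : H ≤ N := le_normalizer_commutator_left H H
  have hxN : x ∈ N := by
    rw [hN, mem_normalizer_iff_map_conj_eq, map_commutator, mem_normalizer_iff_map_conj_eq.1 h.norm]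
  haveI : ((⁅H, H⁆ : Subgroup G).subgroupOf N).Normal := normal_in_normalizer
  set π := QuotientGroup.mk' ((⁅H, H⁆ : Subgroup G).subgroupOf N) with hπ
  set A : Subgroup _ := (H.subgroupOf N).map π with hA
  haveI : IsMulCommutative A := ⟨⟨by
    rintro ⟨_, a, ha, rfl⟩ ⟨_, b, hb, rfl⟩
    apply Subtype.ext
    show π a * π b = π b * π a
    rw [← map_mul, ← map_mul]
    refine (QuotientGroup.eq).2 ?_
    show (((a * b)⁻¹ * (b * a) : N) : G) ∈ ⁅H, H⁆
    have : (((a * b)⁻¹ * (b * a) : N) : G) = ⁅(b : G)⁻¹, (a : G)⁻¹⁆ := by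
      simp [commutatorElement_def, mul_assoc]
    rw [this]
    exact commutator_mem_commutator (inv_mem hb) (inv_mem ha)⟩⟩
  have hP : zpowers (π ⟨x, hxN⟩) = (zpowers (⟨x, hxN⟩ : N)).map π := (MonoidHom.map_zpowers _ _).symm
  have hAhyp : Hyp (π ⟨x, hxN⟩) A := by
    refine ⟨le_normalizer_map π ⟨_, ?_, rfl⟩, ?_, Group.isSolvable_of_comm fun a b => mul_comm' a b⟩
    · exact mem_normalizer_iff.2 fun y => mem_normalizer_iff.1 h.norm y
    · rw [hP]
      refine (h.cop.coprime_dvd_left ?_).coprime_dvd_right ((card_map_dvd _ _).trans ?_)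
      · refine (card_map_dvd _ _).trans ?_
        rw [Nat.card_zpowers, Nat.card_zpowers, orderOf_mk]
      · rw [Nat.card_congr (subgroupOfEquivOfLe hHN).toEquiv]
  have hcN : c ∈ N := hHN hc'.1
  have h1 : (⟨c, hcN⟩ : N) ∈ ⁅H.subgroupOf N, zpowers (⟨x, hxN⟩ : N)⁆ := by
    have hm : ⁅H.subgroupOf N, zpowers (⟨x, hxN⟩ : N)⁆.map N.subtype = H := by
      rw [map_commutator, map_subgroupOf_eq_of_le hHN, MonoidHom.map_zpowers]
      exact hc
    obtain ⟨y, hy, he⟩ : c ∈ ⁅H.subgroupOf N, zpowers (⟨x, hxN⟩ : N)⁆.map N.subtype := hm.ge hc'.1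
    have : y = ⟨c, hcN⟩ := Subtype.ext he
    exact this ▸ hy
  have h2 : π ⟨c, hcN⟩ ∈ ⁅A, zpowers (π ⟨x, hxN⟩)⁆ ⊓ cent (π ⟨x, hxN⟩) := by
    refine ⟨?_, map_cent_le π _ ⟨_, ?_, rfl⟩⟩
    · rw [hP, hA, ← map_commutator]; exact mem_map_of_mem _ h1
    · rw [SetLike.mem_coe, mem_cent]; exact Subtype.ext (mem_cent.1 hc'.2)
  rw [abelian_fpf hAhyp, mem_bot] at h2
  exact (QuotientGroup.eq_one_iff (⟨c, hcN⟩ : N)).1 h2

end finite

end Cfsg.Lib.Flavell
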