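import Cfsg.Agent.Coprime.Flavell.Nilpotent

/-!
The fixed points of a coprime cyclic operator group of odd order in `[H, P]` are generated by the
fixed points of the `[h, P]`.
-/

set_option autoImplicit false
set_option linter.style.haveILetI false
set_option linter.unusedSectionVars false

namespace Cfsg.Lib.Flavell

open Subgroup Cfsg.Lib.Coprime
open scoped commutatorElement

universe u

variable {G : Type u} [Group G] [Finite G] {x : G} {H : Subgroup G}

theorem exists_minNormal (h : Hyp x H) (hH : H ≠ ⊥) : ∃ V, MinNormal x H V := by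
  classical
  haveI : Nonempty {W : Subgroup G // W ≤ H ∧ W ≠ ⊥ ∧ H ≤ normalizer (W : Set G) ∧
      x ∈ normalizer (W : Set G)} := ⟨⟨H, le_rfl, hH, le_normalizer, h.norm⟩⟩
  obtain ⟨⟨V, hVH, hV, hn, hx⟩, hmin⟩ := Finite.exists_min
    (fun W : {W : Subgroup G // W ≤ H ∧ W ≠ ⊥ ∧ H ≤ normalizer (W : Set G) ∧
      x ∈ normalizer (W : Set G)} => Nat.card W.1)
  have minimal : ∀ W : Subgroup G, W ≤ V → H ≤ normalizer (W : Set G) → x ∈ normalizer (W : Set G) →
      W = ⊥ ∨ W = V := fun W hW hWn hWx => by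
    refine or_iff_not_imp_left.2 fun hne => Subgroup.eq_of_le_of_card_ge hW ?_
    exact hmin ⟨W, hW.trans hVH, hne, hWn, hWx⟩
  haveI hsol : Group.IsSolvable V := isSolvable_of_le hVH h.sol
  haveI : Nontrivial V := (Subgroup.nontrivial_iff_ne_bot V).2 hV
  have hle : ⁅V, V⁆ ≤ V := commutator_le_of_le_normalizer le_normalizer
  have hlt : ⁅V, V⁆ ≠ V := fun e => by
    refine (Group.IsSolvable.commutator_lt_top_of_nontrivial (G := V)).ne ?_
    apply map_injective V.subtype_injective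
    rw [map_subtype_commutator, e, ← MonoidHom.range_eq_map, range_subtype]
  have hbot : ⁅V, V⁆ = ⊥ := (minimal _ hle (fun g hg => conj_commutator V V (hn hg) (hn hg))
    (conj_commutator V V hx hx)).resolve_right hlt
  have hcomm : ∀ a ∈ V, ∀ b ∈ V, a * b = b * a := fun a ha b hb =>
    commutatorElement_eq_one_iff_mul_comm.1 (mem_bot.1 (hbot.le (commutator_mem_commutator ha hb)))
  obtain ⟨r, hr, hrd⟩ := Nat.exists_prime_and_dvd (n := Nat.card V) fun h1 => hV (card_eq_one.1 h1)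
  haveI := Fact.mk hr
  let R : Subgroup G :=
    { carrier := {g | g ∈ V ∧ ∃ n : ℕ, g ^ r ^ n = 1}
      one_mem' := ⟨V.one_mem, 0, by simp⟩
      mul_mem' := fun {a b} ha hb => by
        obtain ⟨haV, m, hm⟩ := ha
        obtain ⟨hbV, k, hk⟩ := hb
        refine ⟨mul_mem haV hbV, m + k, ?_⟩
        rw [(show Commute a b from hcomm a haV b hbV).mul_pow, pow_add, pow_mul, hm, one_pow, one_mul,
          mul_comm (r ^ m), pow_mul, hk, one_pow]
      inv_mem' := fun {a} ha => by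
        obtain ⟨haV, m, hm⟩ := ha
        exact ⟨inv_mem haV, m, by rw [inv_pow, hm, inv_one]⟩ }
  have hR : ∀ g ∈ normalizer (V : Set G), g ∈ normalizer (R : Set G) := fun g hg =>
    mem_normalizer_fintype fun y hy => by
      obtain ⟨hyV, m, hm⟩ := hy
      exact ⟨(mem_normalizer_iff.1 hg y).1 hyV, m, by rw [conj_pow, hm, mul_one, mul_inv_cancel]⟩
  have hRne : R ≠ ⊥ := fun e => by
    obtain ⟨g, hg⟩ := exists_prime_orderOf_dvd_card' r hrd
    have hg1 : (g : G) ^ r ^ 1 = 1 := by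
      rw [pow_one, ← hg, ← Subgroup.orderOf_coe]
      exact pow_orderOf_eq_one _
    have hg' : (g : G) ∈ R := ⟨g.2, 1, hg1⟩
    rw [e, mem_bot] at hg'
    rw [show g = 1 from Subtype.ext hg', orderOf_one] at hg
    exact hr.ne_one hg.symm
  have hRV : R = V := (minimal R (fun g hg => hg.1) (fun g hg => hR g (hn hg)) (hR x hx)).resolve_left hRne
  refine ⟨V, hVH, hV, hn, hx, ⟨⟨fun a b => Subtype.ext (hcomm a a.2 b b.2)⟩⟩, ⟨r, hr, ?_⟩, minimal⟩
  intro g
  obtain ⟨-, m, hm⟩ := (hRV.ge g.2 : (g : G) ∈ R)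
  exact ⟨m, Subtype.ext (by simpa using hm)⟩

/-- the fixed points modulo an invariant normal subgroup -/
theorem quotient_step (h : Hyp x H) (hx2 : x ∈ zpowers (x ^ 2)) (hc : ⁅H, zpowers x⁆ = H)
    (ih : ∀ (G' : Type u) [Group G'] [Finite G'] (x' : G') (H' : Subgroup G'), Nat.card H' < Nat.card H →
      Hyp x' H' → x' ∈ zpowers (x' ^ 2) → ⁅H', zpowers x'⁆ ⊓ cent x' ≤ D x' H')
    (V : Subgroup G) (hVH : V ≤ H) (hV : V ≠ ⊥) (hHV : H ≤ normalizer (V : Set G))
    (hxV : x ∈ normalizer (V : Set G)) : ∀ c ∈ H ⊓ cent x, ∃ d ∈ D x H, ∃ v ∈ V, c = d * v := by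
  classical
  intro c hc'
  set N := normalizer (V : Set G) with hN
  haveI : (V.subgroupOf N).Normal := normal_in_normalizer
  set π := QuotientGroup.mk' (V.subgroupOf N) with hπ
  set A : Subgroup _ := (H.subgroupOf N).map π with hA
  set xq := π ⟨x, hxV⟩ with hxq
  have hP : zpowers xq = (zpowers (⟨x, hxV⟩ : N)).map π := (MonoidHom.map_zpowers _ _).symm
  have hcardHN : Nat.card (H.subgroupOf N) = Nat.card H :=
    Nat.card_congr (subgroupOfEquivOfLe hHV).toEquiv
  haveI : Group.IsSolvable H := h.sol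
  haveI : Group.IsSolvable (H.subgroupOf N) :=
    Group.isSolvable_of_surjective (f := (subgroupOfEquivOfLe hHV).symm.toMonoidHom)
      (subgroupOfEquivOfLe hHV).symm.surjective
  have hAhyp : Hyp xq A := by
    refine ⟨le_normalizer_map π ⟨_, ?_, rfl⟩, ?_,
      Group.isSolvable_of_surjective (π.subgroupMap_surjective (H.subgroupOf N))⟩
    · exact mem_normalizer_iff.2 fun y => mem_normalizer_iff.1 h.norm y
    · rw [hP]
      refine (h.cop.coprime_dvd_left ?_).coprime_dvd_right ((card_map_dvd _ _).trans hcardHN.dvd)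
      refine (card_map_dvd _ _).trans ?_
      rw [Nat.card_zpowers, Nat.card_zpowers, orderOf_mk]
  have hlt : Nat.card A < Nat.card H := by
    refine lt_of_le_of_ne (Nat.le_of_dvd Nat.card_pos ((card_map_dvd _ _).trans hcardHN.dvd)) fun e => hV ?_
    have hbij := (Nat.bijective_iff_surjective_and_card (π.subgroupMap (H.subgroupOf N))).2
      ⟨π.subgroupMap_surjective _, by rw [hcardHN]; exact e.symm⟩
    refine (eq_bot_iff_forall V).2 fun v hv => ?_
    have h1 : (⟨⟨v, hHV (hVH hv)⟩, hVH hv⟩ : H.subgroupOf N) = 1 := hbij.1 (Subtype.ext (by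
      show π ⟨v, hHV (hVH hv)⟩ = π 1
      rw [map_one]; exact (QuotientGroup.eq_one_iff _).2 hv))
    exact congrArg (fun y : H.subgroupOf N => ((y : N) : G)) h1
  have hAc : ⁅A, zpowers xq⁆ = A := by
    rw [hP, hA, ← map_commutator]
    congr 1
    apply map_injective N.subtype_injective
    rw [map_commutator, map_subgroupOf_eq_of_le hHV, MonoidHom.map_zpowers]
    exact hc
  have hxq2 : xq ∈ zpowers (xq ^ 2) := by
    obtain ⟨k, hk⟩ := mem_zpowers_iff.1 hx2
    refine mem_zpowers_iff.2 ⟨k, ?_⟩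
    rw [hxq, ← map_pow, ← map_zpow]
    exact congrArg π (Subtype.ext (by simpa using hk))
  have hlift : D xq A ≤ ((D x H).subgroupOf N).map π := by
    refine iSup₂_le ?_
    rintro _ ⟨k, hk, rfl⟩ y ⟨hy, hyc⟩
    rw [hxq, ← map_cm, SetLike.mem_coe] at hy
    obtain ⟨y, hy, rfl⟩ := hy
    have hkH : (k : G) ∈ H := hk
    set L := cm x (k : G) ⊓ V with hL
    have hy' : (y : G) ∈ cm x (k : G) := by
      have : (y : G) ∈ (cm (⟨x, hxV⟩ : N) k).map N.subtype := ⟨y, hy, rfl⟩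
      rwa [map_cm] at this
    have hn : x ∈ normalizer (cm x (k : G) : Set G) := conj_cm_le _ (isOfFinOrder_of_finite x)
    have hLn : x ∈ normalizer (L : Set G) :=
      le_normalizer_inf (H := zpowers x) (zpowers_le.2 hn) (zpowers_le.2 hxV) (mem_zpowers x)
    obtain ⟨d, hd, hdc⟩ := exists_fixed_in_coset (k := (y : G)) (zpowers_le_normalizer hLn)
      (coprime_of_le (inf_le_left.trans (cm_le h.norm hkH)) h.cop) (Or.inl solA) fun a ha => by
        refine ⟨?_, ?_⟩
        · show (y : G)⁻¹ * a * (y : G) * a⁻¹ ∈ cm x (k : G)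
          rw [mul_assoc, mul_assoc, ← mul_assoc a]
          exact mul_mem (inv_mem hy') ((mem_normalizer_iff.1 (zpowers_le.2 hn ha) _).1 hy')
        · have haN : a ∈ N := zpowers_le.2 hxV ha
          obtain ⟨i, hi⟩ := (conj_cm_le.mem_powers_iff_mem_zpowers' (isOfFinOrder_of_finite x)).2 ha
          have h1 : π ⟨a, haN⟩ * π y = π y * π ⟨a, haN⟩ := by
            have h2 : (⟨a, haN⟩ : N) = ⟨x, hxV⟩ ^ i := Subtype.ext (by simpa using hi.symm)
            rw [h2, map_pow]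
            exact (mem_centralizer_iff.1 hyc _ (pow_mem (mem_zpowers _) i))
          have h3 : π (y⁻¹ * ⟨a, haN⟩ * y * ⟨a, haN⟩⁻¹) = 1 := by
            rw [map_mul, map_mul, map_mul, map_inv, map_inv, mul_assoc _ (π ⟨a, haN⟩), h1]
            group
          show (y⁻¹ * ⟨a, haN⟩ * y * ⟨a, haN⟩⁻¹ : N) ∈ V.subgroupOf N
          exact (QuotientGroup.eq_one_iff _).1 h3
    have hdN : d ∈ N := hHV (hVH hd.2)
    refine ⟨y * ⟨d, hdN⟩, inf_le_D hkH ⟨mul_mem hy' hd.1, hdc⟩, ?_⟩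
    rw [map_mul, show π ⟨d, hdN⟩ = 1 from (QuotientGroup.eq_one_iff _).2 hd.2, mul_one]
  have hcN : c ∈ N := hHV hc'.1
  have hcq : π ⟨c, hcN⟩ ∈ A ⊓ cent xq := by
    refine ⟨⟨_, hc'.1, rfl⟩, map_cent_le π _ ⟨_, ?_, rfl⟩⟩
    rw [SetLike.mem_coe, mem_cent]; exact Subtype.ext (mem_cent.1 hc'.2)
  obtain ⟨d, hd, hde⟩ := hlift (ih _ xq A hlt hAhyp hxq2 (by rwa [hAc]))
  refine ⟨(d : G), hd, (d : G)⁻¹ * c, ?_, by group⟩
  exact (QuotientGroup.eq (s := V.subgroupOf N) (a := d) (b := ⟨c, hcN⟩)).1 hde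

theorem fixed_points_le_D_aux (n : ℕ) : ∀ (G : Type u) [Group G] [Finite G] (x : G) (H : Subgroup G),
    Nat.card H = n → Hyp x H → x ∈ zpowers (x ^ 2) → ⁅H, zpowers x⁆ ⊓ cent x ≤ D x H := by
  induction n using Nat.strong_induction_on with
  | _ n ih =>
  intro G _ _ x H hn h hx2
  have hsub : ∀ K : Subgroup G, K < H → x ∈ normalizer (K : Set G) →
      ⁅K, zpowers x⁆ ⊓ cent x ≤ D x H := fun K hK hKn =>
    (ih (Nat.card K) (hn ▸ lt_of_le_of_ne (card_le_of_le hK.le)
      fun e => hK.ne (Subgroup.eq_of_le_of_card_ge hK.le e.ge)) G x K rfl (h.mono hK.le hKn) hx2).trans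
      (D_mono hK.le)
  by_cases hc : ⁅H, zpowers x⁆ = H
  swap
  · have hlt : ⁅H, zpowers x⁆ < H := lt_of_le_of_ne (commutator_le_self h.norm) hc
    have := hsub _ hlt (commutator_norm H)
    rwa [commutator_commutator_eq (zpowers_le_normalizer h.norm) h.cop (Or.inr h.sol)] at this
  rw [hc]
  by_cases hgen : ∃ k ∈ H, cm x k = H
  · obtain ⟨k, hk, hkH⟩ := hgen
    calc H ⊓ cent x = cm x k ⊓ cent x := by rw [hkH]
      _ ≤ D x H := inf_le_D hk
  have m : Min x H :=
    { toHyp := h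
      comm := hc
      sub := hsub
      quo := quotient_step h hx2 hc fun G' _ _ x' H' hlt h' hx' => ih _ (hn ▸ hlt) G' x' H' rfl h' hx'
      nogen := fun k hk e => hgen ⟨k, hk, e⟩ }
  by_cases hp : ∃ r : ℕ, r.Prime ∧ IsPGroup r H
  · obtain ⟨r, hr, hpr⟩ := hp
    haveI := Fact.mk hr
    exact prime_power hx2 m hpr
  push Not at hp
  rcases eq_or_ne H ⊥ with rfl | hne
  · rw [bot_inf_eq]; exact bot_le
  obtain ⟨V, hV⟩ := exists_minNormal h hne
  have hfix : V ⊓ cent x ≤ D x H := by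
    by_cases hVc : ⁅V, H⁆ = ⊥
    · obtain ⟨r, hr, hVr⟩ := hV.pgroup
      haveI := Fact.mk hr
      exact central m hV hVr hVc (hp r hr)
    · exact noncentral hx2 m hV hVc hp
  intro c hc'
  obtain ⟨d, hd, v, hv, rfl⟩ := m.quo V hV.le hV.ne hV.normal hV.xn c hc'
  refine mul_mem hd (hfix ⟨hv, ?_⟩)
  simpa using (cent x).mul_mem ((cent x).inv_mem (D_le h.norm hd).2) hc'.2

/-- **Flavell**: `C_{[H,P]}(P)` is generated by the `C_{[h,P]}(P)` -/
theorem fixed_points_le_D (h : Hyp x H) (hx2 : x ∈ zpowers (x ^ 2)) :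
    ⁅H, zpowers x⁆ ⊓ cent x ≤ D x H :=
  fixed_points_le_D_aux _ G x H rfl h hx2

end Cfsg.Lib.Flavell
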