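import Cfsg.Agent.Coprime.Flavell.Basic

/-!
The counting argument: an abelian group acted on by `⟨x⟩` and by an irreducible abelian group `Q`
cannot be covered by two translates of the fixed points of `x`.
-/

set_option autoImplicit false
set_option linter.style.haveILetI false
set_option linter.unusedSectionVars false

namespace Cfsg.Lib.Flavell

open Subgroup

universe u

variable {G : Type u} [Group G] [Finite G]

theorem normalizer_le_normalizer_centralizer (U : Subgroup G) :
    normalizer (U : Set G) ≤ normalizer (centralizer (U : Set G) : Set G) := by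
  have key : ∀ g ∈ normalizer (U : Set G), ∀ y ∈ centralizer (U : Set G), g * y * g⁻¹ ∈ centralizer (U : Set G) := by
    intro g hg y hy
    refine mem_centralizer_iff.2 fun u hu => ?_
    have h1 := mem_centralizer_iff.1 hy _ ((mem_normalizer_iff''.1 hg u).1 hu)
    calc u * (g * y * g⁻¹) = g * ((g⁻¹ * u * g) * y) * g⁻¹ := by group
      _ = g * (y * (g⁻¹ * u * g)) * g⁻¹ := by rw [h1]
      _ = g * y * g⁻¹ * u := by group
  exact fun g hg => Cfsg.Lib.Coprime.mem_normalizer_of_conj_mem (key g hg)
    fun y hy => by simpa using key g⁻¹ (inv_mem hg) y hy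

theorem no_cover {x : G} (hx2 : x ∈ zpowers (x ^ 2)) {V Q : Subgroup G} [IsMulCommutative V] [IsMulCommutative Q]
    (hQV : Q ≤ normalizer (V : Set G)) (hxV : x ∈ normalizer (V : Set G)) (hxQ : x ∈ normalizer (Q : Set G))
    (hV : V ≠ ⊥) (hcop : (Nat.card Q).Coprime (Nat.card V))
    (hirrQ : ∀ L : Subgroup G, L ≤ Q → x ∈ normalizer (L : Set G) → L = ⊥ ∨ L = Q)
    (hirrV : ∀ W : Subgroup G, W ≤ V → Q ≤ normalizer (W : Set G) → x ∈ normalizer (W : Set G) →
      W = ⊥ ∨ W = V)
    (hQ : Q ≠ ⊥) (hfaith : Q ⊓ centralizer (V : Set G) = ⊥) (hfpf : Q ⊓ cent x = ⊥)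
    (hcov : ∀ a ∈ Q, a ≠ 1 → ∀ v ∈ V, ∃ c ∈ V ⊓ cent x, ∃ c' ∈ V ⊓ cent x, v = a⁻¹ * c * a * c') :
    False := by
  classical
  letI : CommGroup V := { mul_comm := mul_comm' }
  haveI := Fintype.ofFinite V
  set C : Subgroup V := (cent x).subgroupOf V with hC
  let act : ↥(normalizer (V : Set G)) →* MulAut V := V.normalizerMonoidHom
  let X : MulAut V := act ⟨x, hxV⟩
  let α : Q →* MulAut V := act.comp (Subgroup.inclusion hQV)
  have hαv : ∀ (a : Q) (v : V), (α a v : G) = a * v * (a : G)⁻¹ := fun a v => rfl
  have hXv : ∀ v : V, (X v : G) = x * v * x⁻¹ := fun v => rfl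
  have hXC : ∀ c ∈ C, X c = c := fun c hc => Subtype.ext (by
    rw [hXv, mem_cent.1 (show (c : G) ∈ cent x from hc), mul_inv_cancel_right])
  let σ : Q → Q := fun a => ⟨x * a * x⁻¹, (mem_normalizer_iff.1 hxQ a).1 a.2⟩
  have hσ : ∀ (a : Q) (v : V), X (α a v) = α (σ a) (X v) := fun a v => Subtype.ext (by
    rw [hXv, hαv, hαv, hXv]
    show x * ((a : G) * v * (a : G)⁻¹) * x⁻¹ = x * a * x⁻¹ * (x * v * x⁻¹) * (x * a * x⁻¹)⁻¹
    group)
  have hfix2 : ∀ a : Q, σ (σ a) = a → a = 1 := by
    intro a ha
    have h2 : x ^ 2 ∈ centralizer ({(a : G)} : Set G) := by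
      rw [mem_centralizer_singleton_iff]
      have := congrArg Subtype.val ha
      change x * (x * a * x⁻¹) * x⁻¹ = (a : G) at this
      calc x ^ 2 * a = x * (x * a * x⁻¹) * x⁻¹ * x ^ 2 := by simp only [pow_two]; group
        _ = _ := by rw [this]
    have h1 := (zpowers_le.2 h2) hx2
    rw [mem_centralizer_singleton_iff] at h1
    have : (a : G) ∈ Q ⊓ cent x := ⟨a.2, mem_cent.2 h1⟩
    rw [hfpf, mem_bot] at this
    exact Subtype.ext this
  have hfix1 : ∀ a : Q, σ a = a → a = 1 := fun a ha => hfix2 a (by rw [ha, ha])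
  -- the two translates give at most |C|² elements
  have hle : Nat.card V ≤ Nat.card C * Nat.card C := by
    obtain ⟨a, ha, ha1⟩ : ∃ a ∈ Q, a ≠ (1 : G) := by
      by_contra h
      push Not at h
      exact hQ ((eq_bot_iff_forall _).2 h)
    rw [← Nat.card_prod]
    refine Nat.card_le_card_of_surjective (fun c : C × C => α ⟨a⁻¹, inv_mem ha⟩ c.1.1 * c.2.1) ?_
    rintro ⟨v, hv⟩
    obtain ⟨c, hc, c', hc', rfl⟩ := hcov a ha ha1 v hv
    refine ⟨(⟨⟨c, hc.1⟩, hc.2⟩, ⟨⟨c', hc'.1⟩, hc'.2⟩), Subtype.ext ?_⟩
    show a⁻¹ * c * a⁻¹⁻¹ * c' = _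
    rw [inv_inv]
  -- three translates are independent
  suffices h : ∃ f : C × C × C → V, Function.Injective f by
    obtain ⟨f, hf⟩ := h
    have h3 := Nat.card_le_card_of_injective f hf
    rw [Nat.card_prod, Nat.card_prod] at h3
    have hC1 : Nat.card C = 1 := by
      have hpos : 0 < Nat.card C := Nat.card_pos
      have := h3.trans hle
      by_contra hne
      have h2 : 2 ≤ Nat.card C := by omega
      have : Nat.card C * Nat.card C * 2 ≤ Nat.card C * Nat.card C * 1 := by
        calc Nat.card C * Nat.card C * 2 ≤ Nat.card C * Nat.card C * Nat.card C := Nat.mul_le_mul_left _ h2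
          _ ≤ _ := by rw [mul_one, mul_assoc]; exact this
      have hp : 0 < Nat.card C * Nat.card C := Nat.mul_pos hpos hpos
      omega
    rw [hC1] at hle
    exact hV (Subgroup.eq_bot_of_card_le V hle)
  by_cases hA : ∀ (b : Q) (v : V), b ≠ 1 → α b v = v → v = 1
  · obtain ⟨a, ha, ha1⟩ : ∃ a ∈ Q, a ≠ (1 : G) := by
      by_contra h
      push Not at h
      exact hQ ((eq_bot_iff_forall _).2 h)
    let A : Q := ⟨a, ha⟩
    have hA1 : A ≠ 1 := fun h => ha1 (congrArg Subtype.val h)
    have hcomm : ∀ (s t : Q) (v : V), α s (α t v) = α t (α s v) := fun s t v => by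
      rw [← MulAut.mul_apply, ← map_mul, mul_comm' s t, map_mul, MulAut.mul_apply]
    have hsep : ∀ (s t : Q) (v : V), s ≠ t → α s v = α t v → v = 1 := fun s t v hst h => by
      refine hA (t⁻¹ * s) v (fun e => hst (inv_mul_eq_one.1 e).symm) ?_
      rw [map_mul, MulAut.mul_apply, h, ← MulAut.mul_apply, ← map_mul, inv_mul_cancel, map_one]
      rfl
    refine ⟨fun c => c.1.1 * α A c.2.1.1 * α A (α A c.2.2.1), ?_⟩
    intro c d hcd
    have key : ∀ c0 ∈ C, ∀ c1 ∈ C, ∀ c2 ∈ C, c0 * α A c1 * α A (α A c2) = 1 → c0 = 1 ∧ c1 = 1 ∧ c2 = 1 := by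
      intro c0 h0 c1 h1 c2 h2 h
      set B := σ A with hB
      set E := σ B with hE
      have hAB : A ≠ B := fun e => hA1 (hfix1 A e.symm)
      have hAE : A ≠ E := fun e => hA1 (hfix2 A e.symm)
      have hBE : B ≠ E := fun e => hAB (by
        have := congrArg Subtype.val e
        change x * a * x⁻¹ = x * (x * a * x⁻¹) * x⁻¹ at this
        exact Subtype.ext (mul_left_cancel (mul_right_cancel this)))
      have hB' : c0 * α B c1 * α B (α B c2) = 1 := by
        have := congrArg X h
        simp only [map_mul, map_one, hσ, hXC c0 h0, hXC c1 h1, hXC c2 h2] at this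
        exact this
      have hE' : c0 * α E c1 * α E (α E c2) = 1 := by
        have := congrArg X hB'
        simp only [map_mul, map_one, hσ, hXC c0 h0, hXC c1 h1, hXC c2 h2] at this
        exact this
      have step : ∀ S : Q, A ≠ S → c0 * α S c1 * α S (α S c2) = 1 → c1 * α A c2 * α S c2 = 1 := by
        intro S hS hS'
        refine hsep A S _ hS ?_
        have e1 : α A c1 * α A (α A c2) = α S c1 * α S (α S c2) := by
          have := h.trans hS'.symm
          rwa [mul_assoc, mul_assoc, mul_left_cancel_iff] at this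
        rw [map_mul, map_mul, map_mul, map_mul, hcomm S A c2, e1, mul_assoc, mul_assoc,
          mul_comm (α S (α S c2))]
      have y1 := step B hAB hB'
      have y2 := step E hAE hE'
      have h2' : c2 = 1 := hsep B E c2 hBE (mul_left_cancel (y1.trans y2.symm))
      subst h2'
      rw [map_one, map_one, mul_one, mul_one] at y1
      subst y1
      simp only [map_one, mul_one] at h
      exact ⟨h, rfl, rfl⟩
    have := key (c.1.1 / d.1.1) (C.div_mem c.1.2 d.1.2) (c.2.1.1 / d.2.1.1) (C.div_mem c.2.1.2 d.2.1.2)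
      (c.2.2.1 / d.2.2.1) (C.div_mem c.2.2.2 d.2.2.2) (by
        simp only [map_div]
        rw [div_mul_div_comm, div_mul_div_comm, div_eq_one]
        exact hcd)
    obtain ⟨e0, e1, e2⟩ := this
    exact Prod.ext (Subtype.ext (div_eq_one.1 e0))
      (Prod.ext (Subtype.ext (div_eq_one.1 e1)) (Subtype.ext (div_eq_one.1 e2)))
  · push Not at hA
    obtain ⟨b, v₀, hb, hbv, hv₀⟩ := hA
    -- subgroups with fixed points
    let P : Subgroup Q → Prop := fun B => ∃ w : V, w ≠ 1 ∧ ∀ s ∈ B, α s w = w
    haveI : Finite {B : Subgroup Q // P B} := inferInstance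
    haveI : Nonempty {B : Subgroup Q // P B} := ⟨⟨zpowers b, v₀, hv₀, fun s hs => by
      obtain ⟨k, rfl⟩ := mem_zpowers_iff.1 hs
      let St : Subgroup Q :=
        { carrier := {s | α s v₀ = v₀}
          one_mem' := by simp
          mul_mem' := fun {s t} (hs : α s v₀ = v₀) (ht : α t v₀ = v₀) => by
            show α (s * t) v₀ = v₀
            rw [map_mul, MulAut.mul_apply, ht, hs]
          inv_mem' := fun {s} (hs : α s v₀ = v₀) => by
            show α s⁻¹ v₀ = v₀
            conv_lhs => rw [← hs]
            rw [← MulAut.mul_apply, ← map_mul, inv_mul_cancel, map_one]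
            rfl }
      exact St.zpow_mem hbv k⟩⟩
    obtain ⟨⟨B, w, hw1, hw⟩, hmax⟩ :=
      Finite.exists_max (fun B : {B : Subgroup Q // P B} => Nat.card B.1)
    have hmax' : ∀ B' : Subgroup Q, P B' → Nat.card B' ≤ Nat.card B := fun B' h => hmax ⟨B', h⟩
    have hB : B ≠ ⊥ := fun h => by
      have h1 := hmax' (zpowers b) ⟨v₀, hv₀, fun s hs => by
        obtain ⟨k, rfl⟩ := mem_zpowers_iff.1 hs
        have : ∀ n : ℕ, α (b ^ n) v₀ = v₀ := fun n => by
          induction n with
          | zero => simp
          | succ n ih => rw [pow_succ, map_mul, MulAut.mul_apply, hbv, ih]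
        obtain ⟨n, hn⟩ : ∃ n : ℕ, b ^ n = b ^ k := (conj_cm_le.mem_powers_iff_mem_zpowers'
          (isOfFinOrder_of_finite b)).2 (zpow_mem (mem_zpowers b) k)
        rw [← hn]; exact this n⟩
      rw [h, Subgroup.card_bot, Nat.card_zpowers] at h1
      exact hb (orderOf_eq_one_iff.1 (le_antisymm h1 (orderOf_pos b)))
    -- the conjugates of `B`
    let τ : Q ≃* Q :=
      { toFun := σ
        invFun := fun a => ⟨x⁻¹ * a * x, (mem_normalizer_iff''.1 hxQ a).1 a.2⟩
        left_inv := fun a => Subtype.ext (by show x⁻¹ * (x * a * x⁻¹) * x = _; group)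
        right_inv := fun a => Subtype.ext (by show x * (x⁻¹ * a * x) * x⁻¹ = _; group)
        map_mul' := fun a c => Subtype.ext (by show x * (a * c : G) * x⁻¹ = x * a * x⁻¹ * (x * c * x⁻¹); group) }
    set B1 := B.map τ.toMonoidHom
    set B2 := B1.map τ.toMonoidHom
    have hc1 : Nat.card B1 = Nat.card B := card_map_of_injective τ.injective
    have hc2 : Nat.card B2 = Nat.card B := (card_map_of_injective τ.injective).trans hc1
    have hinv : ∀ S : Subgroup Q, S.map τ.toMonoidHom = S → S = ⊥ ∨ S = ⊤ := by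
      intro S hS
      have hn : x ∈ normalizer (S.map Q.subtype : Set G) := by
        refine Cfsg.Lib.Coprime.mem_normalizer_of_conj_mem ?_ ?_
        · rintro _ ⟨s, hs, rfl⟩
          exact ⟨τ s, hS ▸ ⟨s, hs, rfl⟩, rfl⟩
        · rintro _ ⟨s, hs, rfl⟩
          obtain ⟨t, ht, rfl⟩ := hS.ge hs
          refine ⟨t, ht, ?_⟩
          show (t : G) = x⁻¹ * (x * t * x⁻¹) * x
          group
      rcases hirrQ _ (map_subtype_le S) hn with h | h
      · exact Or.inl ((map_eq_bot_iff_of_injective _ Q.subtype_injective).1 h)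
      · right
        apply map_injective Q.subtype_injective
        rw [h, ← MonoidHom.range_eq_map, range_subtype]
    have hBtop : B ≠ ⊤ := fun h => by
      subst h
      have hW : ∀ v : V, (∀ s : Q, α s v = v) → v = 1 := by
        intro v hv
        set W : Subgroup G := V ⊓ centralizer (Q : Set G)
        have hQW : Q ≤ normalizer (W : Set G) := fun s hs =>
          Cfsg.Lib.Coprime.mem_normalizer_of_conj_mem
            (fun y hy => by rw [mem_centralizer_iff.1 hy.2 s hs, mul_inv_cancel_right]; exact hy)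
            (fun y hy => by rw [mul_assoc, ← mem_centralizer_iff.1 hy.2 s hs, inv_mul_cancel_left]; exact hy)
        have hxW : x ∈ normalizer (W : Set G) := by
          refine Cfsg.Lib.Coprime.le_normalizer_inf (H := zpowers x) (zpowers_le.2 hxV)
            (zpowers_le.2 ?_) (mem_zpowers x)
          exact normalizer_le_normalizer_centralizer (Q : Subgroup G) hxQ
        have hvW : (v : G) ∈ W := ⟨v.2, mem_centralizer_iff.2 fun s hs => by
          have := congrArg Subtype.val (hv ⟨s, hs⟩)
          change s * v * s⁻¹ = (v : G) at this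
          exact mul_inv_eq_iff_eq_mul.1 this⟩
        rcases hirrV W inf_le_left hQW hxW with h | h
        · rw [h, mem_bot] at hvW; exact Subtype.ext hvW
        · exfalso
          refine hQ ?_
          rw [← hfaith]
          refine (inf_eq_left.2 fun s hs => mem_centralizer_iff.2 fun y hy => ?_).symm
          exact (mem_centralizer_iff.1 (h.ge hy).2 s hs).symm
      exact hw1 (hW w fun s => hw s (mem_top s))
    have h01 : B ≠ B1 := fun h => (hinv B h.symm).elim hB hBtop
    have h02 : B ≠ B2 := fun h => by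
      refine (hinv B ?_).elim hB hBtop
      have h2 : B.map (τ * τ : MulAut Q).toMonoidHom = B := by
        conv_rhs => rw [h]
        rw [show B2 = (B.map τ.toMonoidHom).map τ.toMonoidHom from rfl, map_map]
        rfl
      -- `x` is a power of `x ^ 2`
      obtain ⟨k, hk⟩ := (conj_cm_le.mem_powers_iff_mem_zpowers' (isOfFinOrder_of_finite (x ^ 2))).2 hx2
      have : ∀ n : ℕ, B.map ((τ * τ : MulAut Q) ^ n).toMonoidHom = B := fun n => by
        induction n with
        | zero => exact map_id B
        | succ n ih =>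
          conv_rhs => rw [← ih, ← h2]
          rw [map_map, pow_succ]; rfl
      have e : ((τ * τ : MulAut Q) ^ k) = τ := by
        have : ∀ n : ℕ, ∀ a : Q, (((τ * τ : MulAut Q) ^ n) a : G) = (x ^ 2) ^ n * a * ((x ^ 2) ^ n)⁻¹ := by
          intro n
          induction n with
          | zero => intro a; simp
          | succ n ih =>
            intro a
            rw [pow_succ, MulAut.mul_apply, ih]
            show (x ^ 2) ^ n * (x * (x * a * x⁻¹) * x⁻¹) * _ = _
            group
        ext a
        rw [this k a, hk]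
        rfl
      have := this k
      rwa [e] at this
    have h12 : B1 ≠ B2 := fun h => h01 (map_injective τ.injective h)
    haveI := Fintype.ofFinite B
    haveI := Fintype.ofFinite B1
    haveI := Fintype.ofFinite B2
    -- the averaging maps
    let av : (S : Subgroup Q) → [Fintype S] → V →* V := fun S => ∏ s : S, (α (s : Q)).toMonoidHom
    have hav : ∀ (S : Subgroup Q) [Fintype S] (v : V), av S v = ∏ s : S, α (s : Q) v := fun S _ v =>
      MonoidHom.finsetProd_apply _ _ v
    have hfixav : ∀ (S : Subgroup Q) [Fintype S] (v : V), ∀ t ∈ S, α t (av S v) = av S v := by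
      intro S _ v t ht
      rw [hav, map_prod]
      exact Fintype.prod_equiv (Equiv.mulLeft (⟨t, ht⟩ : S)) _ _ fun s => by
        simp [map_mul, MulAut.mul_apply]
    have havfix : ∀ (S : Subgroup Q) [Fintype S] (v : V), (∀ s ∈ S, α s v = v) → av S v = v ^ Nat.card S := by
      intro S _ v h
      rw [hav, Finset.prod_congr rfl (fun s _ => h s.1 s.2), Finset.prod_const, Finset.card_univ,
        Nat.card_eq_fintype_card]
    have hpow : ∀ (S : Subgroup Q) (v : V), v ^ Nat.card S = 1 → v = 1 := fun S v h => by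
      have h1 : orderOf v ∣ Nat.card V := orderOf_dvd_natCard v
      have h2 : orderOf v ∣ Nat.card Q := (orderOf_dvd_of_pow_eq_one h).trans (card_subgroup_dvd_card S)
      exact orderOf_eq_one_iff.1 (Nat.eq_one_of_dvd_coprimes hcop h2 h1)
    have hcomm : ∀ (s t : Q) (v : V), α s (α t v) = α t (α s v) := fun s t v => by
      rw [← MulAut.mul_apply, ← map_mul, mul_comm' s t, map_mul, MulAut.mul_apply]
    have havc : ∀ (S : Subgroup Q) [Fintype S] (t : Q) (v : V), α t (av S v) = av S (α t v) := by
      intro S _ t v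
      rw [hav, hav, map_prod]
      exact Finset.prod_congr rfl fun s _ => hcomm t s v
    have hzero : ∀ (S T : Subgroup Q) [Fintype S] [Fintype T], Nat.card S = Nat.card B →
        Nat.card T = Nat.card B → S ≠ T → ∀ v, av S (av T v) = 1 := by
      intro S T _ _ hS hT hne v
      by_contra h1
      have hP : P (S ⊔ T) := by
        refine ⟨av S (av T v), h1, fun s hs => ?_⟩
        let St : Subgroup Q :=
          { carrier := {s | α s (av S (av T v)) = av S (av T v)}
            one_mem' := by simp
            mul_mem' := fun {s t} (hs : α s _ = _) (ht : α t _ = _) => by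
              show α (s * t) _ = _
              rw [map_mul, MulAut.mul_apply, ht, hs]
            inv_mem' := fun {s} (hs : α s _ = _) => by
              show α s⁻¹ _ = _
              conv_lhs => rw [← hs]
              rw [← MulAut.mul_apply, ← map_mul, inv_mul_cancel, map_one]
              rfl }
        have hle : S ⊔ T ≤ St := sup_le (fun s hs => hfixav S _ s hs) (fun t ht => by
          show α t _ = _
          rw [havc, hfixav T v t ht])
        exact hle hs
      have h2 := hmax' _ hP
      have h3 : S = S ⊔ T := Subgroup.eq_of_le_of_card_ge le_sup_left (h2.trans hS.ge)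
      have h4 : T = S ⊔ T := Subgroup.eq_of_le_of_card_ge le_sup_right (h2.trans hT.ge)
      exact hne (h3.trans h4.symm)
    have hX0 : ∀ v : V, X (av B v) = av B1 (X v) := fun v => by
      rw [hav, hav, map_prod]
      exact Fintype.prod_equiv (B.equivMapOfInjective τ.toMonoidHom τ.injective).toEquiv _ _ fun s => hσ s v
    have hX1 : ∀ v : V, X (av B1 v) = av B2 (X v) := fun v => by
      rw [hav, hav, map_prod]
      exact Fintype.prod_equiv (B1.equivMapOfInjective τ.toMonoidHom τ.injective).toEquiv _ _ fun s => hσ s v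
    have hker : ∀ c ∈ C, av B c = 1 → c = 1 := by
      intro c hc he
      -- the common kernel of all conjugates
      let U : Subgroup V :=
        { carrier := {v | ∀ n : ℕ, av B ((X ^ n) v) = 1}
          one_mem' := fun n => by simp
          mul_mem' := fun {v w} hv hw n => by rw [map_mul, map_mul, hv n, hw n, mul_one]
          inv_mem' := fun {v} hv n => by rw [map_inv, map_inv, hv n, inv_one] }
      have hcU : c ∈ U := fun n => by
        have : (X ^ n) c = c := by
          induction n with
          | zero => simp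
          | succ n ih => rw [pow_succ, MulAut.mul_apply, hXC c hc, ih]
        rw [this, he]
      have hn : ∀ n : ℕ, ∀ t : Q, ∃ t' : Q, ∀ v, (X ^ n) (α t v) = α t' ((X ^ n) v) := by
        intro n
        induction n with
        | zero => exact fun t => ⟨t, fun v => by simp⟩
        | succ n ih =>
          intro t
          obtain ⟨t', ht'⟩ := ih (σ t)
          exact ⟨t', fun v => by rw [pow_succ, MulAut.mul_apply, MulAut.mul_apply, hσ, ht']⟩
      have hUQ : Q ≤ normalizer (U.map V.subtype : Set G) := by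
        have key : ∀ t : Q, ∀ v ∈ U, α t v ∈ U := fun t v hv n => by
          obtain ⟨t', ht'⟩ := hn n t
          rw [ht', ← havc, hv n, map_one]
        intro s hs
        refine Cfsg.Lib.Coprime.mem_normalizer_of_conj_mem ?_ ?_
        · rintro _ ⟨v, hv, rfl⟩
          exact ⟨α ⟨s, hs⟩ v, key _ v hv, rfl⟩
        · rintro _ ⟨v, hv, rfl⟩
          refine ⟨α ⟨s⁻¹, inv_mem hs⟩ v, key _ v hv, ?_⟩
          show s⁻¹ * (v : G) * s⁻¹⁻¹ = s⁻¹ * v * s
          rw [inv_inv]
      have hUx : x ∈ normalizer (U.map V.subtype : Set G) := by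
        have h1 : U.map X.toMonoidHom = U := Subgroup.eq_of_le_of_card_ge (by
          rintro _ ⟨v, hv, rfl⟩ n
          show av B ((X ^ n) (X v)) = 1
          rw [← MulAut.mul_apply, ← pow_succ]; exact hv (n + 1))
          (card_map_of_injective X.injective).ge
        refine Cfsg.Lib.Coprime.mem_normalizer_of_conj_mem ?_ ?_
        · rintro _ ⟨v, hv, rfl⟩
          exact ⟨X v, h1 ▸ ⟨v, hv, rfl⟩, rfl⟩
        · rintro _ ⟨v, hv, rfl⟩
          obtain ⟨t, ht, rfl⟩ := h1.ge hv
          refine ⟨t, ht, ?_⟩
          show (t : G) = x⁻¹ * (x * t * x⁻¹) * x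
          group
      rcases hirrV _ (map_subtype_le U) hUQ hUx with h | h
      · have := (map_eq_bot_iff_of_injective _ V.subtype_injective).1 h
        exact mem_bot.1 (this ▸ hcU)
      · exfalso
        have hU : U = ⊤ := map_injective V.subtype_injective (by rw [h, ← MonoidHom.range_eq_map, range_subtype])
        have hwU : w ∈ U := hU ▸ mem_top w
        have h5 := hwU 0
        rw [pow_zero, MulAut.one_apply, havfix B w hw] at h5
        exact hw1 (hpow B w h5)
    refine ⟨fun c => av B c.1.1 * av B1 c.2.1.1 * av B2 c.2.2.1, fun c d hcd => ?_⟩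
    have key : ∀ c0 ∈ C, ∀ c1 ∈ C, ∀ c2 ∈ C, av B c0 * av B1 c1 * av B2 c2 = 1 → c0 = 1 ∧ c1 = 1 ∧ c2 = 1 := by
      intro c0 h0 c1 h1 c2 h2 h
      have same : ∀ (S : Subgroup Q) [Fintype S] (v : V), av S (av S v) = av S v ^ Nat.card S :=
        fun S _ v => havfix S _ (hfixav S v)
      have e0 := congrArg (av B) h
      have e1 := congrArg (av B1) h
      have e2 := congrArg (av B2) h
      rw [map_mul, map_mul, map_one, hzero B B1 rfl hc1 h01, hzero B B2 rfl hc2 h02, mul_one, mul_one, same] at e0
      rw [map_mul, map_mul, map_one, hzero B1 B hc1 rfl h01.symm, hzero B1 B2 hc1 hc2 h12, one_mul, mul_one, same] at e1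
      rw [map_mul, map_mul, map_one, hzero B2 B hc2 rfl h02.symm, hzero B2 B1 hc2 hc1 h12.symm, one_mul, one_mul, same] at e2
      have f0 := hpow B _ e0
      have f1 := hpow B1 _ e1
      have f2 := hpow B2 _ e2
      refine ⟨hker c0 h0 f0, hker c1 h1 (X.injective ?_), hker c2 h2 (X.injective (X.injective ?_))⟩
      · rw [hX0, hXC c1 h1, map_one, f1]
      · rw [hX0, hXC c2 h2, hX1, hXC c2 h2, map_one, map_one, f2]
    have := key (c.1.1 / d.1.1) (C.div_mem c.1.2 d.1.2) (c.2.1.1 / d.2.1.1) (C.div_mem c.2.1.2 d.2.1.2)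
      (c.2.2.1 / d.2.2.1) (C.div_mem c.2.2.2 d.2.2.2) (by
        simp only [map_div]
        rw [div_mul_div_comm, div_mul_div_comm, div_eq_one]
        exact hcd)
    obtain ⟨e0, e1, e2⟩ := this
    exact Prod.ext (Subtype.ext (div_eq_one.1 e0))
      (Prod.ext (Subtype.ext (div_eq_one.1 e1)) (Subtype.ext (div_eq_one.1 e2)))

end Cfsg.Lib.Flavell
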