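import Cfsg.Agent.Coprime.Flavell.Steps

/-!
The configuration in which the group has prime power order.
-/

set_option autoImplicit false
set_option linter.style.haveILetI false
set_option linter.unusedSectionVars false

namespace Cfsg.Lib.Flavell

open Subgroup Cfsg.Lib.Coprime
open scoped commutatorElement

universe u

variable {G : Type u} [Group G] [Finite G] {x : G} {H : Subgroup G}

theorem eq_of_sup_commutator {r : ℕ} [Fact r.Prime] (hH : IsPGroup r H) {L : Subgroup G} (hL : L ≤ H)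
    (h : H ≤ L ⊔ ⁅H, H⁆) : L = H := by
  have hf := Cfsg.Lib.PGroups.commutator_le_frattini hH
  have h1 : L.subgroupOf H ⊔ frattini H = ⊤ := by
    refine top_le_iff.1 ((?_ : (⊤ : Subgroup H) ≤ L.subgroupOf H ⊔ commutator H).trans (sup_le_sup_left hf _))
    rw [← map_le_map_iff_of_injective H.subtype_injective, Subgroup.map_sup, map_subtype_commutator,
      map_subgroupOf_eq_of_le hL, ← MonoidHom.range_eq_map, range_subtype]
    exact h
  have h2 : L.subgroupOf H = ⊤ := frattini_nongenerating (by rwa [sup_comm] at h1 ⊢)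
  exact le_antisymm hL (subgroupOf_eq_top.1 h2)

theorem prime_power (hx2 : x ∈ zpowers (x ^ 2)) (m : Min x H) {r : ℕ} [hr : Fact r.Prime]
    (hH : IsPGroup r H) : H ⊓ cent x ≤ D x H := by
  classical
  have hbot : H ≠ ⊥ := fun h => m.nogen 1 H.one_mem (le_antisymm (cm_le m.norm H.one_mem) (h ▸ bot_le))
  haveI := hH.isNilpotent
  obtain ⟨n, hn⟩ := (Subgroup.isNilpotent_iff_lowerCentralSeries (S := H)).1 inferInstance
  let γ : ℕ → Subgroup G := fun k => H.lowerCentralSeries k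
  have hγ : ∀ k, γ k ≤ H ∧ H ≤ normalizer (γ k : Set G) ∧ x ∈ normalizer (γ k : Set G) := by
    intro k
    induction k with
    | zero => exact ⟨le_rfl, le_normalizer, m.norm⟩
    | succ k ih =>
      refine ⟨?_, le_normalizer_commutator_right H (γ k), conj_commutator _ _ ih.2.2 m.norm⟩
      exact (le_normalizer_iff_commutator_le_left.1 ih.2.1).trans ih.1
  obtain ⟨k, hk, hmin⟩ : ∃ k, γ k = ⊥ ∧ ∀ j < k, γ j ≠ ⊥ :=
    ⟨Nat.find ⟨n, (hn : γ n = ⊥)⟩, Nat.find_spec (p := fun j => γ j = ⊥) _,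
      fun j hj => Nat.find_min _ hj⟩
  obtain ⟨k, rfl⟩ : ∃ j, k = j + 1 := ⟨k - 1, by
    rcases Nat.eq_zero_or_pos k with h | h
    · exact absurd (h ▸ hk : γ 0 = ⊥) hbot
    · omega⟩
  rcases Nat.eq_zero_or_pos k with rfl | hkpos
  · -- abelian
    haveI : IsMulCommutative H := ⟨⟨fun a b => Subtype.ext (by
      have h1 : ⁅(a : G), (b : G)⁆ ∈ γ 1 := commutator_mem_commutator a.2 b.2
      rw [hk, mem_bot] at h1
      exact commutatorElement_eq_one_iff_mul_comm.1 h1)⟩⟩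
    have := abelian_fpf m.toHyp
    rw [m.comm] at this
    rw [this]; exact bot_le
  obtain ⟨i, rfl⟩ : ∃ i, k = i + 1 := ⟨k - 1, by omega⟩
  set A := γ i with hA
  set Γ := γ (i + 1) with hΓ
  have hΓdef : Γ = ⁅A, H⁆ := rfl
  obtain ⟨hΓH, hΓn, hΓx⟩ := hγ (i + 1)
  obtain ⟨hAH, hAn, hAx⟩ := hγ i
  have hΓne : Γ ≠ ⊥ := hmin _ (Nat.lt_succ_self _)
  have hcen : ∀ g ∈ Γ, ∀ h ∈ H, g * h = h * g := fun g hg h hh => by
    have h1 : ⁅g, h⁆ ∈ γ (i + 1 + 1) := commutator_mem_commutator hg hh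
    rw [hk, mem_bot] at h1
    exact commutatorElement_eq_one_iff_mul_comm.1 h1
  haveI hΓc : IsMulCommutative Γ := ⟨⟨fun a b => Subtype.ext (hcen a a.2 b (hΓH b.2))⟩⟩
  have hΓhyp : Hyp x Γ := m.toHyp.mono hΓH hΓx
  set S := absorb x H Γ with hS
  suffices h : Γ ≤ S by
    intro c hc
    obtain ⟨d, hd, g, hg, rfl⟩ := m.quo Γ hΓH hΓne hΓn hΓx c hc
    refine mul_mem hd (fixed_of_le_absorb hΓhyp m.norm (inf_le_left.trans h) ⟨hg, ?_⟩)
    simpa using (cent x).mul_mem ((cent x).inv_mem (D_le m.norm hd).2) hc.2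
  have hmem : ∀ a ∈ A, ∀ b ∈ H, ⁅a, b⁆ ∈ Γ := fun a ha b hb => commutator_mem_commutator ha hb
  -- biadditivity
  have addL : ∀ a ∈ A, ∀ a' ∈ A, ∀ b ∈ H, ⁅a * a', b⁆ = ⁅a', b⁆ * ⁅a, b⁆ := by
    intro a ha a' ha' b hb
    have e : ⁅a * a', b⁆ = a * ⁅a', b⁆ * a⁻¹ * ⁅a, b⁆ := by simp only [commutatorElement_def]; group
    rw [e, ← hcen _ (hmem a' ha' b hb) a (hAH ha), mul_inv_cancel_right]
  have addR : ∀ a ∈ A, ∀ b ∈ H, ∀ b' ∈ H, ⁅a, b * b'⁆ = ⁅a, b⁆ * ⁅a, b'⁆ := by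
    intro a ha b hb b' hb'
    have e : ⁅a, b * b'⁆ = ⁅a, b⁆ * (b * ⁅a, b'⁆ * b⁻¹) := by simp only [commutatorElement_def]; group
    rw [e, ← hcen _ (hmem a ha b' hb') b hb, mul_inv_cancel_right]
  have invL : ∀ a ∈ A, ∀ b ∈ H, ⁅a⁻¹, b⁆ = ⁅a, b⁆⁻¹ := by
    intro a ha b hb
    refine (inv_eq_of_mul_eq_one_right ?_).symm
    rw [← addL a⁻¹ (inv_mem ha) a ha b hb, inv_mul_cancel, commutatorElement_one_left]
  have invR : ∀ a ∈ A, ∀ b ∈ H, ⁅a, b⁻¹⁆ = ⁅a, b⁆⁻¹ := by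
    intro a ha b hb
    refine (inv_eq_of_mul_eq_one_right ?_).symm
    rw [← addR a ha b hb b⁻¹ (inv_mem hb), mul_inv_cancel, commutatorElement_one_right]
  have hSΓ : S ≤ Γ := absorb_le hΓx
  -- invariance
  have hconj : ∀ g ∈ Γ, ∀ y ∈ zpowers x, y * g * y⁻¹ * g⁻¹ ∈ S := fun g hg y hy => conj_mem_absorb hg hy
  have hproper : ∀ K : Subgroup G, K < H → x ∈ normalizer (K : Set G) → K ≤ ⁅K, zpowers x⁆ →
      ∀ g ∈ Γ, g ∈ K → g ∈ S := by
    intro K hK hKx hKP g hg hgK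
    exact le_absorb (W := Γ ⊓ K) inf_le_left
      (hΓhyp.mono inf_le_left (le_normalizer_inf (H := zpowers x) (zpowers_le.2 hΓx) (zpowers_le.2 hKx) (mem_zpowers x)))
      ((inf_le_inf_right _ inf_le_right).trans (m.sub' hK hKx hKP)) ⟨hg, hgK⟩
  have hgen : ∀ T : Subgroup G, (∀ b ∈ H, ∀ j : ℕ, b⁻¹ * (x ^ j * b * (x ^ j)⁻¹) ∈ T) → H ≤ T := by
    intro T hT
    rw [← m.comm]
    refine commutator_le.2 fun b hb y hy => ?_
    obtain ⟨j, rfl⟩ := (conj_cm_le.mem_powers_iff_mem_zpowers' (isOfFinOrder_of_finite x)).2 hy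
    have := hT b⁻¹ (inv_mem hb) j
    simpa [commutatorElement_def, mul_assoc] using this
  have hΓcl : (∀ a ∈ A, ∀ b ∈ H, ⁅a, b⁆ ∈ S) → Γ ≤ S := fun h => commutator_le.2 h
  refine hΓcl ?_
  rcases Nat.eq_zero_or_pos i with rfl | hipos
  · -- class two
    have hAH' : A = H := rfl
    have hΓH' : Γ = ⁅H, H⁆ := rfl
    -- every element is congruent to some `k⁻¹ k^y`
    have hsurj : ∀ y : G, y ∈ zpowers x → x ∈ zpowers y → ∀ h ∈ H, ∃ k ∈ H, ∃ d ∈ Γ,
        h = k⁻¹ * (y * k * y⁻¹) * d := by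
      intro y hy hxy
      have hyn : y ∈ normalizer (H : Set G) := zpowers_le.2 m.norm hy
      have hconjH : ∀ k ∈ H, y * k * y⁻¹ ∈ H := fun k hk => (mem_normalizer_iff.1 hyn k).1 hk
      let T : Submonoid G :=
        { carrier := {h | ∃ k ∈ H, ∃ d ∈ Γ, h = k⁻¹ * (y * k * y⁻¹) * d}
          one_mem' := ⟨1, H.one_mem, 1, Γ.one_mem, by simp⟩
          mul_mem' := by
            rintro _ _ ⟨k, hk, d, hd, rfl⟩ ⟨k', hk', d', hd', rfl⟩
            set u := k⁻¹ * (y * k * y⁻¹)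
            set v := y * k' * y⁻¹
            have hu : u ∈ H := mul_mem (inv_mem hk) (hconjH k hk)
            have hv : v ∈ H := hconjH k' hk'
            refine ⟨k * k', mul_mem hk hk', ⁅u, k'⁻¹⁆ * d * d', ?_, ?_⟩
            · exact mul_mem (mul_mem (hmem u hu _ (inv_mem hk')) hd) hd'
            · have e : (k * k')⁻¹ * (y * (k * k') * y⁻¹) = k'⁻¹ * u * v := by simp only [u, v]; group
              have hw : u * (k'⁻¹ * v) = k'⁻¹ * u * v * ⁅u, k'⁻¹⁆ := by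
                rw [← hcen _ (hmem u hu _ (inv_mem hk')) _ (mul_mem (mul_mem (inv_mem hk') hu) hv)]
                simp only [commutatorElement_def]; group
              rw [e]
              calc u * d * (k'⁻¹ * v * d') = u * (d * (k'⁻¹ * v)) * d' := by group
                _ = u * ((k'⁻¹ * v) * d) * d' := by rw [hcen d hd _ (mul_mem (inv_mem hk') hv)]
                _ = u * (k'⁻¹ * v) * d * d' := by group
                _ = k'⁻¹ * u * v * ⁅u, k'⁻¹⁆ * d * d' := by rw [hw]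
                _ = _ := by group }
      let T' : Subgroup G :=
        { T with
          inv_mem' := fun {a} ha => by
            obtain ⟨n, hn⟩ : ∃ n : ℕ, a ^ n = a⁻¹ := (conj_cm_le.mem_powers_iff_mem_zpowers'
              (isOfFinOrder_of_finite a)).2 (inv_mem (mem_zpowers a))
            rw [← hn]; exact T.pow_mem ha n }
      obtain ⟨e, he⟩ := (conj_cm_le.mem_powers_iff_mem_zpowers' (isOfFinOrder_of_finite y)).2 hxy
      have hle : H ≤ T' := by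
        refine hgen T' fun b hb j => ?_
        have key : ∀ n : ℕ, b⁻¹ * (y ^ n * b * (y ^ n)⁻¹) ∈ T' := by
          intro n
          induction n with
          | zero => simp
          | succ n ih =>
            have hbn : y ^ n * b * (y ^ n)⁻¹ ∈ H := (mem_normalizer_iff.1 (pow_mem hyn n) b).1 hb
            have e : b⁻¹ * (y ^ (n + 1) * b * (y ^ (n + 1))⁻¹) = (b⁻¹ * (y ^ n * b * (y ^ n)⁻¹)) *
                ((y ^ n * b * (y ^ n)⁻¹)⁻¹ * (y * (y ^ n * b * (y ^ n)⁻¹) * y⁻¹) * 1) := by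
              rw [pow_succ']; group
            rw [e]
            exact mul_mem ih ⟨_, hbn, 1, Γ.one_mem, rfl⟩
        have := key (e * j)
        rwa [pow_mul, he] at this
      exact fun h hh => hle hh
    have hdL : ∀ a ∈ H, ∀ d ∈ Γ, ∀ b ∈ H, ⁅a * d, b⁆ = ⁅a, b⁆ := by
      intro a ha d hd b hb
      rw [addL a ha d (hΓH hd) b hb, commutatorElement_eq_one_iff_mul_comm.2 (hcen d hd b hb), one_mul]
    have hdR : ∀ a ∈ H, ∀ d ∈ Γ, ∀ b ∈ H, ⁅a, b * d⁆ = ⁅a, b⁆ := by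
      intro a ha d hd b hb
      rw [addR a ha b hb d (hΓH hd), commutatorElement_eq_one_iff_mul_comm.2 (hcen d hd a ha).symm, mul_one]
    have hxH : ∀ h ∈ H, x * h * x⁻¹ ∈ H := fun h hh => (mem_normalizer_iff.1 m.norm h).1 hh
    have hxH' : ∀ h ∈ H, x⁻¹ * h * x ∈ H := fun h hh => (mem_normalizer_iff''.1 m.norm h).1 hh
    have hdiag : ∀ h ∈ H, ⁅h, x * h * x⁻¹⁆ ∈ S := by
      intro h hh
      obtain ⟨k, hk, d, hd, rfl⟩ := hsurj x (mem_zpowers x) (mem_zpowers x) h hh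
      set u := k⁻¹ * (x * k * x⁻¹) with hu
      have huH : u ∈ H := mul_mem (inv_mem hk) (hxH k hk)
      have e : x * (u * d) * x⁻¹ = x * u * x⁻¹ * (x * d * x⁻¹) := by group
      have hxd : x * d * x⁻¹ ∈ Γ := (mem_normalizer_iff.1 hΓx d).1 hd
      rw [e, hdR _ (mul_mem huH (hΓH hd)) _ hxd _ (hxH u huH), hdL _ huH _ hd _ (hxH u huH)]
      have hn := conj_cm_le (x := x) k (isOfFinOrder_of_finite x)
      have hu' : u ∈ cm x k := by simpa using gen_mem x k 1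
      refine hproper _ (lt_of_le_of_ne (cm_le m.norm hk) (m.nogen k hk)) hn
        (cm_le_cm_commutator m.toHyp hk) _ (hmem u huH _ (hxH u huH)) ?_
      have hu'' : x * u * x⁻¹ ∈ cm x k := (mem_normalizer_iff.1 hn u).1 hu'
      rw [commutatorElement_def]
      exact mul_mem (mul_mem (mul_mem hu' hu'') (inv_mem hu')) (inv_mem hu'')
    intro a ha b hb
    obtain ⟨k, hk, d, hd, rfl⟩ := hsurj (x ^ 2) (pow_mem (mem_zpowers x) 2) hx2 b hb
    have hk2 : x ^ 2 * k * (x ^ 2)⁻¹ ∈ H := (mem_normalizer_iff.1 (pow_mem m.norm 2) k).1 hk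
    rw [hdR a ha d hd _ (mul_mem (inv_mem hk) hk2), addR a ha _ (inv_mem hk) _ hk2, invR a ha k hk]
    set k' := x * k * x⁻¹ with hk'
    have hk'H : k' ∈ H := hxH k hk
    have e2 : x ^ 2 * k * (x ^ 2)⁻¹ = x * k' * x⁻¹ := by rw [hk', pow_two]; group
    rw [e2]
    have hxa := hxH a ha
    have hxk := hxH k' hk'H
    have h12 := hdiag (a * k') (mul_mem ha hk'H)
    have e3 : x * (a * k') * x⁻¹ = x * a * x⁻¹ * (x * k' * x⁻¹) := by group
    rw [e3, addR _ (mul_mem ha hk'H) _ hxa _ hxk, addL a ha k' hk'H _ hxa, addL a ha k' hk'H _ hxk] at h12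
    set P := ⁅k', x * a * x⁻¹⁆ with hP
    set R := ⁅a, x * a * x⁻¹⁆
    set U := ⁅k', x * k' * x⁻¹⁆
    set W := ⁅a, x * k' * x⁻¹⁆
    have hR : R ∈ S := hdiag a ha
    have hU : U ∈ S := hdiag k' hk'H
    -- `P = [k, a]` up to `S`
    have hPc : P = x * ⁅k, a⁆ * x⁻¹ := by
      rw [hP, hk']; simp only [commutatorElement_def]; group
    have hka : ⁅k, a⁆ = ⁅a, k⁆⁻¹ := (commutatorElement_inv a k).symm
    have hPS : P * ⁅a, k⁆ ∈ S := by
      have h := hconj _ (hmem k hk a ha) x (mem_zpowers x)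
      rwa [← hPc, hka, inv_inv] at h
    have hc : ∀ {u v : G}, u ∈ Γ → v ∈ Γ → u * v = v * u := fun hu hv => hcen _ hu _ (hΓH hv)
    have hPΓ : P ∈ Γ := hmem _ hk'H _ hxa
    have hRΓ : R ∈ Γ := hmem _ ha _ hxa
    have hUΓ : U ∈ Γ := hmem _ hk'H _ hxk
    have hWΓ : W ∈ Γ := hmem _ ha _ hxk
    have hPW : P * W ∈ S := by
      have : P * W = (P * R * (U * W)) * (R * U)⁻¹ := by
        calc P * W = P * W * ((R * U) * (R * U)⁻¹) := by group
          _ = P * (W * R) * U * (R * U)⁻¹ := by group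
          _ = P * (R * W) * U * (R * U)⁻¹ := by rw [hc hWΓ hRΓ]
          _ = P * R * (W * U) * (R * U)⁻¹ := by group
          _ = _ := by rw [hc hWΓ hUΓ]
      rw [this]
      exact mul_mem h12 (inv_mem (mul_mem hR hU))
    have : ⁅a, k⁆⁻¹ * W = (P * ⁅a, k⁆)⁻¹ * (P * W) := by group
    rw [this]
    exact mul_mem (inv_mem hPS) hPW
  · -- higher class
    have hA' : A ≤ ⁅H, H⁆ := by
      obtain ⟨j, rfl⟩ : ∃ j, i = j + 1 := ⟨i - 1, by omega⟩
      exact commutator_mono (hγ j).1 le_rfl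
    have hcase : ∀ a₁ ∈ A, ∀ j : ℕ, ∀ b₁ ∈ H, ∀ l : ℕ,
        ⁅a₁⁻¹ * (x ^ j * a₁ * (x ^ j)⁻¹), b₁⁻¹ * (x ^ l * b₁ * (x ^ l)⁻¹)⁆ ∈ S := by
      intro a₁ ha₁ j b₁ hb₁ l
      set K := cm x a₁ ⊔ cm x b₁ with hK
      have hn1 := conj_cm_le (x := x) a₁ (isOfFinOrder_of_finite x)
      have hn2 := conj_cm_le (x := x) b₁ (isOfFinOrder_of_finite x)
      have hKH : K ≤ H := sup_le (cm_le m.norm (hAH ha₁)) (cm_le m.norm hb₁)
      have hKlt : K < H := lt_of_le_of_ne hKH fun h => m.nogen b₁ hb₁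
        (eq_of_sup_commutator hH (cm_le m.norm hb₁) (h.ge.trans
          (sup_le ((cm_le hAx ha₁).trans (hA'.trans le_sup_right)) le_sup_left)))
      have hKn : x ∈ normalizer (K : Set G) :=
        le_normalizer_sup (H := zpowers x) (zpowers_le.2 hn1) (zpowers_le.2 hn2) (mem_zpowers x)
      have hKP : K ≤ ⁅K, zpowers x⁆ := sup_le
        ((cm_le_cm_commutator m.toHyp (hAH ha₁)).trans (commutator_mono le_sup_left le_rfl))
        ((cm_le_cm_commutator m.toHyp hb₁).trans (commutator_mono le_sup_right le_rfl))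
      have h1 : a₁⁻¹ * (x ^ j * a₁ * (x ^ j)⁻¹) ∈ K := mem_sup_left (gen_mem x a₁ j)
      have h2 : b₁⁻¹ * (x ^ l * b₁ * (x ^ l)⁻¹) ∈ K := mem_sup_right (gen_mem x b₁ l)
      refine hproper K hKlt hKn hKP _ (hmem _ (cm_le hAx ha₁ (gen_mem x a₁ j)) _
        (cm_le m.norm hb₁ (gen_mem x b₁ l))) ?_
      rw [commutatorElement_def]
      exact mul_mem (mul_mem (mul_mem h1 h2) (inv_mem h1)) (inv_mem h2)
    have hfixed : ∀ a ∈ A, a ∈ cent x → ∀ b₁ ∈ H, ∀ l : ℕ,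
        ⁅a, b₁⁻¹ * (x ^ l * b₁ * (x ^ l)⁻¹)⁆ ∈ S := by
      intro a ha hac b₁ hb₁ l
      have hb' : x ^ l * b₁ * (x ^ l)⁻¹ ∈ H := pow_conj_mem m.norm hb₁ l
      rw [addR a ha _ (inv_mem hb₁) _ hb', invR a ha b₁ hb₁]
      set g := ⁅a, b₁⁆ with hg
      have e : ⁅a, x ^ l * b₁ * (x ^ l)⁻¹⁆ = x ^ l * g * (x ^ l)⁻¹ := by
        have hxa : x ^ l * a = a * x ^ l := mem_centralizer_iff.1 hac _ (pow_mem (mem_zpowers x) l)
        calc ⁅a, x ^ l * b₁ * (x ^ l)⁻¹⁆ = (a * x ^ l) * b₁ * (a * x ^ l)⁻¹ * (x ^ l * b₁⁻¹ * (x ^ l)⁻¹) := by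
              simp only [commutatorElement_def]; group
          _ = (x ^ l * a) * b₁ * (x ^ l * a)⁻¹ * (x ^ l * b₁⁻¹ * (x ^ l)⁻¹) := by rw [hxa]
          _ = _ := by rw [hg, commutatorElement_def]; group
      have hgΓ : g ∈ Γ := hmem a ha b₁ hb₁
      rw [e, hcen _ (inv_mem hgΓ) _ (hΓH ((mem_normalizer_iff.1 (pow_mem hΓx l) g).1 hgΓ))]
      exact hconj g hgΓ _ (pow_mem (mem_zpowers x) l)
    have hB : ∀ b₁ ∈ H, ∀ l : ℕ, ∀ a ∈ A, ⁅a, b₁⁻¹ * (x ^ l * b₁ * (x ^ l)⁻¹)⁆ ∈ S := by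
      intro b₁ hb₁ l
      set b := b₁⁻¹ * (x ^ l * b₁ * (x ^ l)⁻¹) with hbdef
      have hbH : b ∈ H := cm_le m.norm hb₁ (gen_mem x b₁ l)
      let Ta : Subgroup G :=
        { carrier := {a | a ∈ A ∧ ⁅a, b⁆ ∈ S}
          one_mem' := ⟨A.one_mem, by simp⟩
          mul_mem' := fun {u v} hu hv => ⟨mul_mem hu.1 hv.1, by
            rw [addL u hu.1 v hv.1 b hbH]; exact mul_mem hv.2 hu.2⟩
          inv_mem' := fun {u} hu => ⟨inv_mem hu.1, by rw [invL u hu.1 b hbH]; exact inv_mem hu.2⟩ }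
      have : A ≤ Ta := by
        refine (decomp (m.toHyp.mono hAH hAx)).ge.trans
          (sup_le (commutator_le.2 fun u hu y hy => ?_) fun u hu => ⟨hu.1, hfixed u hu.1 hu.2 b₁ hb₁ l⟩)
        obtain ⟨j, rfl⟩ := (conj_cm_le.mem_powers_iff_mem_zpowers' (isOfFinOrder_of_finite x)).2 hy
        have e : ⁅u, x ^ j⁆ = u⁻¹⁻¹ * (x ^ j * u⁻¹ * (x ^ j)⁻¹) := by
          simp [commutatorElement_def, mul_assoc]
        rw [e]
        exact ⟨cm_le hAx (inv_mem hu) (gen_mem x u⁻¹ j), hcase u⁻¹ (inv_mem hu) j b₁ hb₁ l⟩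
      exact fun a ha => (this ha).2
    intro a ha
    let Tb : Subgroup G :=
      { carrier := {b | b ∈ H ∧ ⁅a, b⁆ ∈ S}
        one_mem' := ⟨H.one_mem, by simp⟩
        mul_mem' := fun {u v} hu hv => ⟨mul_mem hu.1 hv.1, by
          rw [addR a ha u hu.1 v hv.1]; exact mul_mem hu.2 hv.2⟩
        inv_mem' := fun {u} hu => ⟨inv_mem hu.1, by rw [invR a ha u hu.1]; exact inv_mem hu.2⟩ }
    have : H ≤ Tb := hgen Tb fun b hb j => ⟨cm_le m.norm hb (gen_mem x b j), hB b hb j a ha⟩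
    exact fun b hb => (this hb).2

end Cfsg.Lib.Flavell
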