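import Cfsg.Agent.Coprime.Flavell.Module

/-!
The two configurations with a minimal invariant normal subgroup.
-/

set_option autoImplicit false
set_option linter.style.haveILetI false
set_option linter.unusedSectionVars false

namespace Cfsg.Lib.Flavell

open Subgroup Cfsg.Lib.Coprime
open scoped commutatorElement

universe u

variable {G : Type u} [Group G] [Finite G] {x : G} {H V : Subgroup G}

/-- a minimal normal invariant subgroup -/
structure MinNormal (x : G) (H V : Subgroup G) : Prop where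
  le : V ≤ H
  ne : V ≠ ⊥
  normal : H ≤ normalizer (V : Set G)
  xn : x ∈ normalizer (V : Set G)
  comm : IsMulCommutative V
  pgroup : ∃ r : ℕ, r.Prime ∧ IsPGroup r V
  minimal : ∀ W : Subgroup G, W ≤ V → H ≤ normalizer (W : Set G) → x ∈ normalizer (W : Set G) →
    W = ⊥ ∨ W = V

theorem conj_eq_self {U : Subgroup G} (hU : IsMulCommutative U) {a b : G} (ha : a ∈ U) (hb : b ∈ U) :
    a * b * a⁻¹ = b := by
  have : a * b = b * a := congrArg Subtype.val (hU.is_comm.comm ⟨a, ha⟩ ⟨b, hb⟩)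
  rw [this, mul_inv_cancel_right]

theorem conj_commutator {g : G} (A B : Subgroup G) (hA : g ∈ normalizer (A : Set G))
    (hB : g ∈ normalizer (B : Set G)) : g ∈ normalizer ((⁅A, B⁆ : Subgroup G) : Set G) := by
  rw [mem_normalizer_iff_map_conj_eq, map_commutator, mem_normalizer_iff_map_conj_eq.1 hA,
    mem_normalizer_iff_map_conj_eq.1 hB]

theorem noncentral (hx2 : x ∈ zpowers (x ^ 2)) (m : Min x H) (hV : MinNormal x H V)
    (hVc : ⁅V, H⁆ ≠ ⊥) (hnp : ∀ r : ℕ, r.Prime → ¬ IsPGroup r H) :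
    V ⊓ cent x ≤ D x H := by
  haveI := hV.comm
  have hP : Hyp x V := m.toHyp.mono hV.le hV.xn
  have hVH : ⁅V, H⁆ = V := by
    refine (hV.minimal _ ((le_normalizer_iff_commutator_le_left).1 hV.normal) ?_ ?_).resolve_left hVc
    · exact le_normalizer_commutator_right H V
    · exact conj_commutator V H hV.xn m.norm
  by_contra hcon
  obtain ⟨r, hr, hVr⟩ := hV.pgroup
  haveI := Fact.mk hr
  set W := absorb x H V with hW
  have hWV : W ≤ V := absorb_le hV.xn
  have notall : ¬ V ≤ W := fun h => hcon (fixed_of_le_absorb hP m.norm (inf_le_left.trans h))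
  -- the invariant proper subgroups over `V` act inside `W`
  have hsub : ∀ K : Subgroup G, V ≤ K → K < H → x ∈ normalizer (K : Set G) →
      ∀ v ∈ V, ∀ k ∈ ⁅K, zpowers x⁆, ⁅v, k⁆ ∈ W := by
    intro K hVK hK hKn v hv k hk
    have hR : ⁅V, ⁅K, zpowers x⁆⁆ ≤ V ⊓ ⁅K, zpowers x⁆ := by
      refine le_inf ((commutator_mono le_rfl ((commutator_le_self hKn).trans hK.le)).trans hVH.le) ?_
      rw [commutator_comm]
      exact le_normalizer_iff_commutator_le_left.1 (hVK.trans (le_normalizer_commutator_left _ _))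
    have hin : x ∈ normalizer ((⁅V, ⁅K, zpowers x⁆⁆ : Subgroup G) : Set G) :=
      conj_commutator _ _ hV.xn (commutator_norm K)
    exact le_absorb (hR.trans inf_le_left) (hP.mono (hR.trans inf_le_left) hin)
      ((inf_le_inf_right _ (hR.trans inf_le_right)).trans (m.sub K hK hKn))
      (commutator_mem_commutator hv hk)
  set M : Subgroup G := V ⊔ ⨆ K : {K : Subgroup G // V ≤ K ∧ K < H ∧ x ∈ normalizer (K : Set G)},
    ⁅(K : Subgroup G), zpowers x⁆ with hM
  have hMH : M ≤ H := sup_le hV.le (iSup_le fun K =>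
    (commutator_le_self K.2.2.2).trans K.2.2.1.le)
  have hMW : ∀ h ∈ M, h ∈ H ∧ ∀ v ∈ V, ⁅v, h⁆ ∈ W := by
    let S : Submonoid G :=
      { carrier := {h | h ∈ H ∧ ∀ v ∈ V, ⁅v, h⁆ ∈ W}
        one_mem' := ⟨H.one_mem, fun v _ => by simp⟩
        mul_mem' := by
          rintro a b ⟨ha, ha'⟩ ⟨hb, hb'⟩
          refine ⟨mul_mem ha hb, fun v hv => ?_⟩
          have e : ⁅v, a * b⁆ = ⁅v, a⁆ * (⁅⁅v, b⁆, a⁆⁻¹ * ⁅v, b⁆) := by
            simp only [commutatorElement_def]; group
          rw [e]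
          exact mul_mem (ha' v hv) (mul_mem (inv_mem (ha' _ (hWV (hb' v hv)))) (hb' v hv)) }
    let S' : Subgroup G :=
      { S with
        inv_mem' := fun {a} ha => by
          obtain ⟨n, hn⟩ : ∃ n : ℕ, a ^ n = a⁻¹ := (conj_cm_le.mem_powers_iff_mem_zpowers'
            (isOfFinOrder_of_finite a)).2 (inv_mem (mem_zpowers a))
          rw [← hn]; exact S.pow_mem ha n }
    have hle : M ≤ S' := by
      refine sup_le (fun v hv => ⟨hV.le hv, fun w hw => ?_⟩) (iSup_le fun K k hk => ?_)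
      · rw [commutatorElement_eq_one_iff_mul_comm.2 (congrArg Subtype.val
          (mul_comm' (⟨w, hw⟩ : V) ⟨v, hv⟩))]
        exact one_mem _
      · exact ⟨K.2.2.1.le (commutator_le_self K.2.2.2 hk), fun v hv => hsub K K.2.1 K.2.2.1 K.2.2.2 v hv k hk⟩
    exact fun h hh => hle hh
  have hMne : ¬ H ≤ M := fun h => notall (by
    conv_lhs => rw [← hVH]
    exact commutator_le.2 fun v hv k hk => (hMW k (h hk)).2 v hv)
  obtain ⟨q, hq, S, hS⟩ : ∃ q : ℕ, ∃ _ : Fact q.Prime, ∃ S : Sylow q H,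
      x ∈ normalizer ((S : Subgroup H).map H.subtype : Set G) ∧ H ≤ V ⊔ (S : Subgroup H).map H.subtype := by
    by_contra hno
    push Not at hno
    apply hMne
    have hCM : ∀ c ∈ H ⊓ cent x, c ∈ normalizer (M : Set G) := by
      have key : ∀ c ∈ H ⊓ cent x, ∀ g ∈ M, c * g * c⁻¹ ∈ M := by
        intro c hc
        have : M ≤ M.comap (MulAut.conj c).toMonoidHom := by
          refine sup_le (fun v hv => mem_sup_left ((mem_normalizer_iff.1 (hV.normal hc.1) v).1 hv))
            (iSup_le fun K => ?_)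
          rw [← map_le_iff_le_comap, map_commutator]
          set K' := (K : Subgroup G).map (MulAut.conj c).toMonoidHom with hK'
          have hx' : (zpowers x).map (MulAut.conj c).toMonoidHom = zpowers x := by
            rw [MonoidHom.map_zpowers]
            congr 1
            show c * x * c⁻¹ = x
            rw [← mem_cent.1 hc.2, mul_inv_cancel_right]
          rw [hx']
          have hcH := mem_normalizer_iff_map_conj_eq.1 (le_normalizer hc.1 : c ∈ normalizer (H : Set G))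
          refine le_sup_of_le_right (le_iSup_of_le ⟨K', ?_, ?_, ?_⟩ le_rfl)
          · exact (mem_normalizer_iff_map_conj_eq.1 (hV.normal hc.1)).ge.trans (map_mono K.2.1)
          · exact lt_of_lt_of_eq (lt_of_le_of_ne (map_mono K.2.2.1.le)
              fun h => K.2.2.1.ne (map_injective (MulAut.conj c).injective h)) hcH
          · have h1 := le_normalizer_map (H := (K : Subgroup G)) (MulAut.conj c).toMonoidHom
              ⟨x, K.2.2.2, rfl⟩
            rw [show (MulAut.conj c).toMonoidHom x = x from by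
              show c * x * c⁻¹ = x
              rw [← mem_cent.1 hc.2, mul_inv_cancel_right]] at h1
            exact h1
        exact fun g hg => this hg
      exact fun c hc => mem_normalizer_of_conj_mem (key c hc) fun g hg => by
        simpa using key c⁻¹ (inv_mem hc) g hg
    have hall : H ≤ M ⊔ (H ⊓ cent x) := by
      set J := M ⊔ (H ⊓ cent x) with hJ
      have hJH : J ≤ H := sup_le hMH inf_le_left
      refine (Subgroup.eq_of_le_of_card_ge hJH (Nat.le_of_dvd Nat.card_pos ?_)).ge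
      rw [Nat.dvd_iff_prime_pow_dvd_dvd]
      intro q k hq hk
      haveI := Fact.mk hq
      obtain ⟨S, hS⟩ := exists_invariant_sylow (zpowers_le_normalizer m.norm) m.cop (Or.inr m.sol) q
      set S0 := (S : Subgroup H).map H.subtype with hS0
      have hxS : x ∈ normalizer (S0 : Set G) := hS (mem_zpowers x)
      have hS0H : S0 ≤ H := map_subtype_le _
      have hlt : V ⊔ S0 < H := lt_of_le_of_ne (sup_le hV.le hS0H) fun h =>
        hno q ⟨hq⟩ S hxS h.ge
      have hSJ : S0 ≤ J := by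
        rw [← decomp (m.toHyp.mono hS0H hxS)]
        refine sup_le ?_ ((inf_le_inf_right _ hS0H).trans le_sup_right)
        refine le_sup_of_le_left (le_sup_of_le_right (le_iSup_of_le ⟨V ⊔ S0, le_sup_left, hlt, ?_⟩
          (commutator_mono le_sup_right le_rfl)))
        exact le_normalizer_sup (zpowers_le.2 hV.xn) (zpowers_le.2 hxS) (mem_zpowers x)
      refine dvd_trans ?_ (card_dvd_of_le hSJ)
      rw [hS0, card_map_of_injective H.subtype_injective]
      exact S.pow_dvd_card_of_pow_dvd_card hk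
    have hxM : x ∈ normalizer (M : Set G) := by
      have key : ∀ g ∈ M, x * g * x⁻¹ ∈ M := by
        have : M ≤ M.comap (MulAut.conj x).toMonoidHom := by
          refine sup_le (fun v hv => mem_sup_left ((mem_normalizer_iff.1 hV.xn v).1 hv))
            (iSup_le fun K k hk => ?_)
          exact mem_sup_right (le_iSup (fun K : {K : Subgroup G // V ≤ K ∧ K < H ∧ x ∈ normalizer (K : Set G)} =>
            ⁅(K : Subgroup G), zpowers x⁆) K ((mem_normalizer_iff.1 (commutator_norm _) k).1 hk))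
        exact fun g hg => this hg
      exact mem_normalizer_fintype key
    have hn : H ⊓ cent x ≤ normalizer (M : Set G) := hCM
    rw [← m.comm]
    refine commutator_le.2 fun h hh a ha => ?_
    obtain ⟨g, hg, c, hc, rfl⟩ := (mem_sup_of_le_normalizer hn).1 (hall hh)
    have hca : a * c = c * a := mem_centralizer_iff.1 hc.2 a ha
    have : ⁅g * c, a⁆ = g * (a * g * a⁻¹)⁻¹ := by
      simp only [commutatorElement_def]
      calc g * c * a * (g * c)⁻¹ * a⁻¹ = g * (c * a) * c⁻¹ * g⁻¹ * a⁻¹ := by group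
        _ = g * (a * c) * c⁻¹ * g⁻¹ * a⁻¹ := by rw [hca]
        _ = _ := by group
    rw [this]
    exact mul_mem hg (inv_mem ((mem_normalizer_iff.1 (zpowers_le.2 hxM ha) g).1 hg))
  haveI := hq
  set Q := (S : Subgroup H).map H.subtype with hQdef
  obtain ⟨hxQ, hVQ⟩ := hS
  have hQH : Q ≤ H := map_subtype_le _
  have hQp : IsPGroup q Q := S.isPGroup'.map _
  have hQV : Q ≤ normalizer (V : Set G) := hQH.trans hV.normal
  have hsup : V ⊔ Q = H := le_antisymm (sup_le hV.le hQH) hVQ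
  have hqr : q ≠ r := by
    rintro rfl
    exact hnp q hr (hsup ▸ hVr.to_sup_of_normal_left' hQp hQV)
  have hcop : (Nat.card Q).Coprime (Nat.card V) := by
    obtain ⟨i, hi⟩ := IsPGroup.iff_card.1 hQp
    obtain ⟨j, hj⟩ := IsPGroup.iff_card.1 hVr
    rw [hi, hj]
    exact Nat.Coprime.pow _ _ ((Nat.coprime_primes hq.out hr).2 hqr)
  have hQne : Q ≠ ⊥ := fun h => hnp r hr (by rw [← hsup, h, sup_bot_eq]; exact hVr)
  have hQlt : Q < H := by
    refine lt_of_le_of_ne hQH fun h => hV.ne (eq_bot_iff.2 fun v hv => mem_bot.2 ?_)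
    exact eq_one_of_coprime hcop (h ▸ hV.le hv) hv
  have hQP : ⁅Q, zpowers x⁆ = Q := by
    refine le_antisymm (commutator_le_self hxQ) ?_
    set R := ⁅Q, zpowers x⁆ with hR
    have hRQ : R ≤ Q := commutator_le_self hxQ
    have hle : H ≤ V ⊔ R := by
      have hn1 : Q ≤ normalizer ((V ⊔ R : Subgroup G) : Set G) :=
        le_normalizer_sup hQV (le_normalizer_commutator_left _ _)
      have hn2 : V ≤ normalizer ((V ⊔ R : Subgroup G) : Set G) := le_sup_left.trans le_normalizer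
      rw [← m.comm]
      refine commutator_le.2 fun h hh a ha => ?_
      obtain ⟨v, hv, k, hk, rfl⟩ := (mem_sup_of_le_normalizer hQV).1 (hVQ hh)
      have : ⁅v * k, a⁆ = v * ⁅k, a⁆ * v⁻¹ * (v * (a * v * a⁻¹)⁻¹) := by
        simp only [commutatorElement_def]; group
      rw [this]
      exact mul_mem ((mem_normalizer_iff.1 (hn2 hv) _).1 (mem_sup_right (commutator_mem_commutator hk ha)))
        (mem_sup_left (mul_mem hv (inv_mem ((mem_normalizer_iff.1 (zpowers_le.2 hV.xn ha) v).1 hv))))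
    intro k hk
    obtain ⟨v, hv, s, hs, rfl⟩ := (mem_sup_of_le_normalizer (hRQ.trans hQV)).1 (hle (hQH hk))
    have hv1 : v = 1 := eq_one_of_coprime hcop (by simpa using mul_mem hk (inv_mem (hRQ hs))) hv
    rw [hv1, one_mul]; exact hs
  have hQhyp : Hyp x Q := m.toHyp.mono hQH hxQ
  have hCQ : Q ⊓ cent x ≤ D x H := m.sub' hQlt hxQ hQP.ge
  -- `Q` is faithful
  have hfaith : Q ⊓ centralizer (V : Set G) = ⊥ := by
    by_contra hne
    set Q0 := Q ⊓ centralizer (V : Set G) with hQ0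
    have hxQ0 : x ∈ normalizer (Q0 : Set G) :=
      le_normalizer_inf (H := zpowers x) (zpowers_le.2 hxQ)
        (zpowers_le.2 (normalizer_le_normalizer_centralizer V hV.xn)) (mem_zpowers x)
    have hHQ0 : H ≤ normalizer (Q0 : Set G) := by
      rw [← hsup]
      refine sup_le (fun v hv => mem_normalizer_of_conj_mem (fun y hy => ?_) (fun y hy => ?_))
        (le_normalizer_inf le_normalizer (hQV.trans (normalizer_le_normalizer_centralizer V)))
      · rw [mem_centralizer_iff.1 hy.2 v hv, mul_inv_cancel_right]; exact hy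
      · rw [mul_assoc, ← mem_centralizer_iff.1 hy.2 v hv, inv_mul_cancel_left]; exact hy
    refine hcon fun v hv => ?_
    obtain ⟨d, hd, w, hw, rfl⟩ := m.quo Q0 (inf_le_left.trans hQH) hne hHQ0 hxQ0 v ⟨hV.le hv.1, hv.2⟩
    refine mul_mem hd (hCQ ⟨hw.1, ?_⟩)
    simpa using (cent x).mul_mem ((cent x).inv_mem (D_le m.norm hd).2) hv.2
  -- proper invariant normal subgroups of `Q` have only fixed points
  have hsmall : ∀ L : Subgroup G, L ≤ Q → L ≠ Q → x ∈ normalizer (L : Set G) →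
      Q ≤ normalizer (L : Set G) → L ≤ ⁅L, zpowers x⁆ → L = ⊥ := by
    intro L hL hLQ hxL hQL hLP
    by_contra hne
    refine notall ?_
    have hlt : V ⊔ L < H := by
      refine lt_of_le_of_ne (sup_le hV.le (hL.trans hQH)) fun h => hLQ (le_antisymm hL fun k hk => ?_)
      obtain ⟨v, hv, s, hs, rfl⟩ := (mem_sup_of_le_normalizer (hL.trans hQV)).1 (h.ge (hQH hk))
      have hv1 : v = 1 := eq_one_of_coprime hcop (by simpa using mul_mem hk (inv_mem (hL hs))) hv
      rw [hv1, one_mul]; exact hs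
    have hxVL : x ∈ normalizer ((V ⊔ L : Subgroup G) : Set G) :=
      le_normalizer_sup (H := zpowers x) (zpowers_le.2 hV.xn) (zpowers_le.2 hxL) (mem_zpowers x)
    have hVL : ⁅V, L⁆ = V := by
      refine (hV.minimal _ (le_normalizer_iff_commutator_le_left.1 (hL.trans hQV)) ?_
        (conj_commutator V L hV.xn hxL)).resolve_left fun h => hne ?_
      · rw [← hsup]
        exact sup_le (le_normalizer_commutator_left L V)
          fun k hk => conj_commutator V L (hQV hk) (hQL hk)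
      · rw [eq_bot_iff, ← hfaith]
        exact le_inf hL (commutator_eq_bot_iff_le_centralizer.1 (by rw [commutator_comm]; exact h))
    conv_lhs => rw [← hVL]
    exact commutator_le.2 fun v hv k hk => hsub (V ⊔ L) le_sup_left hlt hxVL v hv k
      (commutator_mono le_sup_right le_rfl (hLP hk))
  -- the centre of `Q` has no fixed points
  set Z := Q ⊓ centralizer (Q : Set G) with hZ
  have hxZ : x ∈ normalizer (Z : Set G) :=
    le_normalizer_inf (H := zpowers x) (zpowers_le.2 hxQ)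
      (zpowers_le.2 (normalizer_le_normalizer_centralizer Q hxQ)) (mem_zpowers x)
  have hQZ : Q ≤ normalizer (Z : Set G) :=
    le_normalizer_inf le_normalizer (le_normalizer.trans (normalizer_le_normalizer_centralizer Q))
  have hZfix : Z ⊓ cent x = ⊥ := by
    rw [eq_bot_iff]
    rintro z ⟨⟨hzQ, hzc⟩, hzx⟩
    by_contra hz1
    set W0 := V ⊓ centralizer ({z} : Set G) with hW0
    have hxW0 : x ∈ normalizer (W0 : Set G) := by
      refine mem_normalizer_fintype fun y hy => ⟨(mem_normalizer_iff.1 hV.xn y).1 hy.1, ?_⟩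
      show _ ∈ centralizer ({z} : Set G)
      rw [mem_centralizer_singleton_iff]
      have h1 : Commute x z := mem_cent.1 hzx
      have h2 : Commute y z := mem_centralizer_singleton_iff.1 hy.2
      exact ((h1.mul_left h2).mul_left h1.inv_left).eq
    have hHW0 : H ≤ normalizer (W0 : Set G) := by
      rw [← hsup]
      refine sup_le (fun v hv => mem_normalizer_fintype fun y hy => ?_) fun k hk =>
        mem_normalizer_fintype fun y hy => ⟨(mem_normalizer_iff.1 (hQV hk) y).1 hy.1, ?_⟩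
      · rw [conj_eq_self hV.comm (hv) (hy.1)]
        exact hy
      · show _ ∈ centralizer ({z} : Set G)
        rw [mem_centralizer_singleton_iff]
        have h1 : Commute k z := mem_centralizer_iff.1 hzc k hk
        have h2 : Commute y z := mem_centralizer_singleton_iff.1 hy.2
        exact ((h1.mul_left h2).mul_left h1.inv_left).eq
    rcases hV.minimal W0 inf_le_left hHW0 hxW0 with h | h
    · refine hcon fun v hv => ?_
      let f : ↥(V ⊓ cent x) → ↥(V ⊓ cent x) := fun v => ⟨⁅(v : G), z⁆, by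
        refine ⟨le_normalizer_iff_commutator_le_left.1 hQV (commutator_mem_commutator v.2.1 hzQ), ?_⟩
        exact (cent x).mul_mem ((cent x).mul_mem ((cent x).mul_mem v.2.2 hzx) ((cent x).inv_mem v.2.2))
          ((cent x).inv_mem hzx)⟩
      have hf : Function.Injective f := by
        intro a b hab
        have e : ⁅(a : G), z⁆ = ⁅(b : G), z⁆ := congrArg Subtype.val hab
        simp only [commutatorElement_def, mul_left_inj] at e
        have : (b : G)⁻¹ * a ∈ W0 := by
          refine ⟨V.mul_mem (V.inv_mem b.2.1) a.2.1, ?_⟩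
          show _ ∈ centralizer ({z} : Set G)
          rw [mem_centralizer_singleton_iff]
          calc (b : G)⁻¹ * a * z = (b : G)⁻¹ * ((a : G) * z * (a : G)⁻¹) * a := by group
            _ = (b : G)⁻¹ * ((b : G) * z * (b : G)⁻¹) * a := by rw [e]
            _ = z * ((b : G)⁻¹ * a) := by group
        rw [h, mem_bot] at this
        exact Subtype.ext (inv_mul_eq_one.1 this).symm
      obtain ⟨w, hw⟩ := (Finite.injective_iff_surjective.1 hf) ⟨v, hv⟩
      rw [show v = ⁅(w : G), z⁆ from (congrArg Subtype.val hw).symm, commutatorElement_def]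
      have hzD : z ∈ D x H := hCQ ⟨hzQ, hzx⟩
      exact mul_mem ((mem_normalizer_iff.1 (D_normalized H ⟨hV.le w.2.1, w.2.2⟩) z).1 hzD) (inv_mem hzD)
    · refine hz1 (mem_bot.1 (hfaith.le ⟨hzQ, mem_centralizer_iff.2 fun v hv => ?_⟩))
      exact mem_centralizer_singleton_iff.1 (h.ge hv).2
  have hZP : Z ≤ ⁅Z, zpowers x⁆ := by
    have h := (decomp (hQhyp.mono inf_le_left hxZ)).ge
    rwa [hZfix, sup_bot_eq] at h
  -- `Q` is abelian
  have hQab : Q ≤ centralizer (Q : Set G) := by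
    by_contra h
    have hZne : Z ≠ Q := fun e => h (inf_eq_left.1 e)
    have hZb := hsmall Z inf_le_left hZne hxZ hQZ hZP
    haveI : Nontrivial Q := (Subgroup.nontrivial_iff_ne_bot Q).2 hQne
    haveI := hQp.center_nontrivial
    obtain ⟨⟨⟨z, hzQ⟩, hzc⟩, hz1⟩ := exists_ne (1 : center Q)
    have : z ∈ Z := ⟨hzQ, mem_centralizer_iff.2 fun k hk =>
      congrArg Subtype.val (Subgroup.mem_center_iff.1 hzc ⟨k, hk⟩)⟩
    rw [hZb, mem_bot] at this
    exact hz1 (Subtype.ext (Subtype.ext this))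
  haveI hQcomm : IsMulCommutative Q :=
    ⟨⟨fun a b => Subtype.ext (mem_centralizer_iff.1 (hQab b.2) a a.2)⟩⟩
  have hfpf : Q ⊓ cent x = ⊥ := by
    rw [eq_bot_iff, ← hZfix]
    exact inf_le_inf_right _ (le_inf le_rfl hQab)
  have hirrQ : ∀ L : Subgroup G, L ≤ Q → x ∈ normalizer (L : Set G) → L = ⊥ ∨ L = Q := by
    intro L hL hxL
    by_cases hLQ : L = Q
    · exact Or.inr hLQ
    refine Or.inl (hsmall L hL hLQ hxL (fun k hk => ?_) ?_)
    · refine mem_normalizer_fintype fun y hy => ?_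
      rw [mem_centralizer_iff.1 (hQab (hL hy)) k hk, mul_inv_cancel_right]; exact hy
    · have h := (decomp (hQhyp.mono hL hxL)).ge
      rwa [show L ⊓ cent x = ⊥ from eq_bot_iff.2 ((inf_le_inf_right _ hL).trans hfpf.le), sup_bot_eq] at h
  have hirrV : ∀ W : Subgroup G, W ≤ V → Q ≤ normalizer (W : Set G) → x ∈ normalizer (W : Set G) →
      W = ⊥ ∨ W = V := by
    intro W hWV' hQW hxW
    refine hV.minimal W hWV' ?_ hxW
    rw [← hsup]
    refine sup_le (fun v hv => mem_normalizer_fintype fun y hy => ?_) hQW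
    rw [conj_eq_self hV.comm (hv) ((hWV' hy))]
    exact hy
  refine no_cover hx2 hQV hV.xn hxQ hV.ne hcop hirrQ hirrV hQne hfaith hfpf fun a ha ha1 v hv => ?_
  set h := a * v with hh
  have hhH : h ∈ H := mul_mem (hQH ha) (hV.le hv)
  set L := cm x h with hL
  have hLH : L ≤ H := cm_le m.norm hhH
  have hxL : x ∈ normalizer (L : Set G) := conj_cm_le h (isOfFinOrder_of_finite x)
  have hLn : L ≤ normalizer (V : Set G) := hLH.trans hV.normal
  have hbm : a⁻¹ * (x * a * x⁻¹) ∈ V ⊔ L := by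
    have e : a⁻¹ * (x * a * x⁻¹) = v * (h⁻¹ * (x ^ 1 * h * (x ^ 1)⁻¹)) * (x * v * x⁻¹)⁻¹ := by
      rw [pow_one, hh]; group
    rw [e]
    exact mul_mem (mul_mem (mem_sup_left hv) (mem_sup_right (gen_mem x h 1)))
      (inv_mem (mem_sup_left ((mem_normalizer_iff.1 hV.xn v).1 hv)))
  have hVL : V ⊔ L = H := by
    refine le_antisymm (sup_le hV.le hLH) ?_
    rw [← hsup]
    refine sup_le le_sup_left ?_
    have hxQL : x ∈ normalizer ((Q ⊓ (V ⊔ L) : Subgroup G) : Set G) :=
      le_normalizer_inf (H := zpowers x) (zpowers_le.2 hxQ)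
        (le_normalizer_sup (zpowers_le.2 hV.xn) (zpowers_le.2 hxL)) (mem_zpowers x)
    rcases hirrQ _ inf_le_left hxQL with e | e
    · have hb : a⁻¹ * (x * a * x⁻¹) ∈ Q ⊓ (V ⊔ L) :=
        ⟨Q.mul_mem (Q.inv_mem ha) ((mem_normalizer_iff.1 hxQ a).1 ha), hbm⟩
      rw [e, mem_bot, inv_mul_eq_one] at hb
      exact absurd (mem_bot.1 (hfpf.le ⟨ha, mem_cent.2 (eq_mul_inv_iff_mul_eq.1 hb).symm⟩)) ha1
    · exact fun k hk => (e.ge hk).2
  have hVLbot : V ⊓ L = ⊥ := by
    have hnn : H ≤ normalizer ((V ⊓ L : Subgroup G) : Set G) := by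
      rw [← hVL]
      refine sup_le (fun w hw => mem_normalizer_fintype fun y hy => ?_) (le_normalizer_inf hLn le_normalizer)
      rw [conj_eq_self hV.comm (hw) (hy.1)]
      exact hy
    refine (hV.minimal _ inf_le_left hnn
      (le_normalizer_inf (H := zpowers x) (zpowers_le.2 hV.xn) (zpowers_le.2 hxL) (mem_zpowers x))).resolve_right
      fun e => m.nogen h hhH ?_
    show L = H
    rw [← hVL, sup_of_le_right (inf_eq_left.1 e)]
  have hcardL : Nat.card L = Nat.card Q := by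
    have h1 := card_sup_of_inf_eq_bot hLn hVLbot
    have h2 := card_sup_coprime hQV hcop.symm
    rw [hVL] at h1
    rw [hsup] at h2
    exact Nat.eq_of_mul_eq_mul_left Nat.card_pos (h1.symm.trans h2)
  have hcardS : Nat.card (L.subgroupOf H) = q ^ (Nat.card H).factorization q := by
    rw [Nat.card_congr (subgroupOfEquivOfLe hLH).toEquiv, hcardL, hQdef,
      card_map_of_injective H.subtype_injective, S.card_eq_multiplicity]
  set SL : Sylow q H := Sylow.ofCard (L.subgroupOf H) hcardS with hSL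
  have hSLmap : (SL : Subgroup H).map H.subtype = L := by
    rw [hSL, Sylow.coe_ofCard, map_subgroupOf_eq_of_le hLH]
  obtain ⟨c, hc, hcS⟩ := invariant_sylow_conj (zpowers_le_normalizer m.norm) m.cop (Or.inr m.sol) q S SL
    (zpowers_le.2 hxQ) (by rw [hSLmap]; exact zpowers_le.2 hxL)
  have hLc : L = conjMap (c : G) Q := by rw [← hSLmap, ← hcS, map_subtype_smul]
  have hCV : ∀ g ∈ H ⊓ cent x, g ∈ V := by
    rintro g ⟨hg, hgc⟩
    obtain ⟨w, hw, k, hk, rfl⟩ := (mem_sup_of_le_normalizer hQV).1 (hVQ hg)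
    have hw' : x * w * x⁻¹ ∈ V := (mem_normalizer_iff.1 hV.xn w).1 hw
    have hk' : x * k * x⁻¹ ∈ Q := (mem_normalizer_iff.1 hxQ k).1 hk
    have e : (x * w * x⁻¹) * (x * k * x⁻¹) = w * k := by
      have := mem_cent.1 hgc
      calc (x * w * x⁻¹) * (x * k * x⁻¹) = x * (w * k) * x⁻¹ := by group
        _ = _ := by rw [this, mul_inv_cancel_right]
    have e' : (x * k * x⁻¹) * k⁻¹ = (x * w * x⁻¹)⁻¹ * w := by
      rw [eq_inv_mul_iff_mul_eq, ← mul_assoc, e, mul_inv_cancel_right]
    have h1 := eq_one_of_coprime hcop (mul_mem hk' (inv_mem hk)) (e' ▸ mul_mem (inv_mem hw') hw)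
    rw [mul_inv_eq_one, mul_inv_eq_iff_eq_mul] at h1
    rw [mem_bot.1 (hfpf.le ⟨hk, mem_cent.2 h1⟩), mul_one]
    exact hw
  obtain ⟨d, hd, hdc⟩ := exists_fixed hxL (coprime_of_le hLH m.cop) le_rfl
  have hd' := inv_mem hd
  rw [hLc, mem_conjMap] at hd'
  set e := (c : G)⁻¹ * d⁻¹ * c with he
  set c1 := h * d with hc1
  have hc1V : c1 ∈ V := hCV _ ⟨mul_mem hhH (hLH hd), hdc⟩
  have hcV : (c : G) ∈ V := hCV _ ⟨c.2, hc⟩
  have hx1 : a * v * a⁻¹ * a = c1 * c * (e * (c : G)⁻¹ * e⁻¹) * e := by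
    rw [he, hc1, hh]; group
  have hinj := mul_injective_of_disjoint (disjoint_iff.2 (Cfsg.Lib.Coprime.inf_eq_bot_of_coprime hcop.symm))
    (a₁ := ((⟨a * v * a⁻¹, (mem_normalizer_iff.1 (hQV ha) v).1 hv⟩ : V), (⟨a, ha⟩ : Q)))
    (a₂ := ((⟨c1 * c * (e * (c : G)⁻¹ * e⁻¹),
      mul_mem (mul_mem hc1V hcV) ((mem_normalizer_iff.1 (hQV hd') _).1 (inv_mem hcV))⟩ : V),
      (⟨e, hd'⟩ : Q))) hx1
  have hea : e = a := (congrArg (fun z => ((z.2 : Q) : G)) hinj).symm
  have hva : a * v * a⁻¹ = c1 * c * (a * (c : G)⁻¹ * a⁻¹) := by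
    have := congrArg (fun z => ((z.1 : V) : G)) hinj
    exact this.trans (by show c1 * c * (e * (c : G)⁻¹ * e⁻¹) = _; rw [hea])
  refine ⟨c1 * c, ⟨mul_mem hc1V hcV, (cent x).mul_mem hdc hc⟩, (c : G)⁻¹,
    ⟨V.inv_mem hcV, (cent x).inv_mem hc⟩, ?_⟩
  calc v = a⁻¹ * (a * v * a⁻¹) * a := by group
    _ = _ := by rw [hva]; group

/-- a central fixed element -/
theorem central (m : Min x H) {r : ℕ} [Fact r.Prime] (hV : MinNormal x H V) (hVr : IsPGroup r V)
    (hVc : ⁅V, H⁆ = ⊥) (hnp : ¬ IsPGroup r H) : V ⊓ cent x ≤ D x H := by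
  haveI := hV.comm
  rintro v ⟨hvV, hvx⟩
  have hcomm : ∀ w ∈ V, ∀ h ∈ H, w * h = h * w := fun w hw h hh =>
    (mem_centralizer_iff.1 (commutator_eq_bot_iff_le_centralizer.1 hVc hw) h hh).symm
  have hCC : ⁅H ⊓ cent x, H ⊓ cent x⁆ ≤ D x H := by
    rw [commutator_le]
    intro a ha b hb
    obtain ⟨d, hd, w, hw, rfl⟩ := m.quo V hV.le hV.ne hV.normal hV.xn a ha
    obtain ⟨d', hd', w', hw', rfl⟩ := m.quo V hV.le hV.ne hV.normal hV.xn b hb
    have hdH := (D_le m.norm hd).1
    have hd'H := (D_le m.norm hd').1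
    have h1 : ∀ g ∈ H, Commute w g := hcomm w hw
    have h2 : ∀ g ∈ H, Commute w' g := hcomm w' hw'
    have : ⁅d * w, d' * w'⁆ = ⁅d, d'⁆ := by
      simp only [commutatorElement_def]
      calc d * w * (d' * w') * (d * w)⁻¹ * (d' * w')⁻¹
          = d * (w * (d' * w')) * w⁻¹ * d⁻¹ * (w'⁻¹ * d'⁻¹) := by group
        _ = d * ((d' * w') * w) * w⁻¹ * d⁻¹ * (w'⁻¹ * d'⁻¹) := by
          rw [(h1 _ (mul_mem hd'H (hV.le hw'))).eq]
        _ = d * d' * (w' * d⁻¹) * w'⁻¹ * d'⁻¹ := by group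
        _ = d * d' * (d⁻¹ * w') * w'⁻¹ * d'⁻¹ := by rw [(h2 _ (inv_mem hdH)).eq]
        _ = _ := by group
    rw [this, commutatorElement_def]
    exact mul_mem (mul_mem (mul_mem hd hd') (inv_mem hd)) (inv_mem hd')
  have hvH : v ∈ H := hV.le hvV
  have hv' : v ∈ ⁅H, H⁆ := abelian_quotient_fixed m.toHyp m.comm ⟨hvH, hvx⟩
  obtain ⟨S, hS⟩ := exists_invariant_sylow (zpowers_le_normalizer m.norm) m.cop (Or.inr m.sol) r
  set S0 := (S : Subgroup H).map H.subtype with hS0
  have hxS : x ∈ normalizer (S0 : Set G) := hS (mem_zpowers x)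
  have hS0H : S0 ≤ H := map_subtype_le _
  have hS0r : IsPGroup r S0 := S.isPGroup'.map _
  -- transfer into the Sylow subgroup
  have hvc : (⟨v, hvH⟩ : H) ∈ center H :=
    Subgroup.mem_center_iff.2 fun g => Subtype.ext (hcomm v hvV g g.2).symm
  have hvS : v ∈ S0 := by
    have hp : IsPGroup r (zpowers (⟨v, hvH⟩ : H)) := fun ⟨z, hz⟩ => by
      obtain ⟨k, rfl⟩ := mem_zpowers_iff.1 hz
      obtain ⟨n, hn⟩ := hVr (⟨v, hvV⟩ ^ k)
      exact ⟨n, Subtype.ext (Subtype.ext (by simpa using congrArg Subtype.val hn))⟩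
    haveI : (zpowers (⟨v, hvH⟩ : H)).Normal := ⟨fun z hz g => by
      obtain ⟨k, rfl⟩ := mem_zpowers_iff.1 hz
      rw [Subgroup.mem_center_iff.1 (zpow_mem hvc k) g, mul_inv_cancel_right]
      exact zpow_mem (mem_zpowers _) k⟩
    obtain ⟨T, hT⟩ := hp.exists_le_sylow
    obtain ⟨g, hg⟩ := MulAction.exists_smul_eq H T S
    refine ⟨⟨v, hvH⟩, ?_, rfl⟩
    rw [← hg, Sylow.coe_subgroup_smul, SetLike.mem_coe, Subgroup.mem_pointwise_smul_iff_inv_smul_mem]
    refine hT ?_
    simp only [MulAut.smul_def, ← map_inv, MulAut.conj_apply]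
    rw [Subgroup.mem_center_iff.1 hvc, mul_inv_cancel_right]
    exact mem_zpowers _
  have hvcomm : v ∈ ⁅S0, S0⁆ := by
    have hvSy : (⟨v, hvH⟩ : H) ∈ (S : Subgroup H) := by
      obtain ⟨y, hy, he⟩ := hvS
      have : y = ⟨v, hvH⟩ := Subtype.ext he
      exact this ▸ hy
    set φ : (S : Subgroup H) →* Abelianization (S : Subgroup H) := Abelianization.of
    have hvH' : (⟨v, hvH⟩ : H) ∈ commutator H := by
      rw [← map_subtype_commutator] at hv'
      obtain ⟨y, hy, he⟩ := hv'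
      have : y = ⟨v, hvH⟩ := Subtype.ext he
      exact this ▸ hy
    have h0 : MonoidHom.transfer φ (⟨v, hvH⟩ : H) = 1 :=
      Abelianization.commutator_subset_ker (MonoidHom.transfer φ) hvH'
    have hkey : ∀ (k : ℕ) (g : H), g⁻¹ * (⟨v, hvH⟩ : H) ^ k * g ∈ (S : Subgroup H) →
        g⁻¹ * (⟨v, hvH⟩ : H) ^ k * g = (⟨v, hvH⟩ : H) ^ k := fun k g _ => by
      rw [mul_assoc, ← Subgroup.mem_center_iff.1 (pow_mem hvc k) g, inv_mul_cancel_left]
    rw [MonoidHom.transfer_eq_pow φ _ hkey, ← MonoidHom.mem_ker, Abelianization.ker_of] at h0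
    have hi : ¬ r ∣ (S : Subgroup H).index := S.not_dvd_index
    obtain ⟨n, hn⟩ := hVr ⟨v, hvV⟩
    have hn' : (⟨v, hvH⟩ : H) ^ r ^ n = 1 :=
      Subtype.ext (by simpa using congrArg Subtype.val hn)
    have hcop : Nat.gcd (S : Subgroup H).index (r ^ n) = 1 :=
      Nat.Coprime.pow_right n ((Fact.out : r.Prime).coprime_iff_not_dvd.2 hi).symm
    have h1 : (⟨⟨v, hvH⟩, hvSy⟩ : (S : Subgroup H)) ^ (S : Subgroup H).index ∈ commutator (S : Subgroup H) := by
      have e : ∀ h, (⟨(⟨v, hvH⟩ : H) ^ (S : Subgroup H).index, h⟩ : (S : Subgroup H))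
          = (⟨⟨v, hvH⟩, hvSy⟩ : (S : Subgroup H)) ^ (S : Subgroup H).index := fun _ => Subtype.ext rfl
      rw [← e]
      exact h0
    have h2 : (⟨⟨v, hvH⟩, hvSy⟩ : (S : Subgroup H)) ∈ commutator (S : Subgroup H) := by
      have hpow : (⟨⟨v, hvH⟩, hvSy⟩ : (S : Subgroup H)) ^ (r ^ n) = 1 := Subtype.ext hn'
      have := Nat.gcd_eq_gcd_ab (S : Subgroup H).index (r ^ n)
      have hz : (⟨⟨v, hvH⟩, hvSy⟩ : (S : Subgroup H)) ^ ((1 : ℕ) : ℤ) ∈ commutator (S : Subgroup H) := by
        rw [← hcop, this, zpow_add, zpow_mul, zpow_mul, zpow_natCast, zpow_natCast, hpow, one_zpow, mul_one]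
        exact zpow_mem h1 _
      rwa [Nat.cast_one, zpow_one] at hz
    have h3 := mem_map_of_mem H.subtype (mem_map_of_mem (S : Subgroup H).subtype h2)
    rw [map_subtype_commutator, map_commutator] at h3
    exact h3
  -- `S' ≤ [S, P] (C_H(P))'`
  have hhyp : Hyp x S0 := m.toHyp.mono hS0H hxS
  set R := ⁅S0, zpowers x⁆ with hR
  set C' := ⁅S0 ⊓ cent x, S0 ⊓ cent x⁆ with hC'
  have hC'S : C' ≤ S0 ⊓ cent x := (commutator_le_self' _)
  have hRn : S0 ≤ normalizer (R : Set G) := le_normalizer_commutator_left _ _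
  have hsub : ⁅S0, S0⁆ ≤ R ⊔ C' := by
    rw [commutator_le]
    intro s hs t ht
    have hd := decomp hhyp
    rw [← hd] at hs ht
    have hCR : S0 ⊓ cent x ≤ normalizer (R : Set G) := inf_le_left.trans hRn
    obtain ⟨a, ha, c, hc, rfl⟩ := (mem_sup_of_le_normalizer hCR).1 hs
    obtain ⟨b, hb, c', hc', rfl⟩ := (mem_sup_of_le_normalizer hCR).1 ht
    have e : ⁅a * c, b * c'⁆ =
        a * (c * b * c⁻¹) * ((c * c' * c⁻¹) * a⁻¹ * (c * c' * c⁻¹)⁻¹) *
          (⁅c, c'⁆ * b⁻¹ * ⁅c, c'⁆⁻¹) * ⁅c, c'⁆ := by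
      simp only [commutatorElement_def]; group
    rw [e]
    refine mul_mem_sup (mul_mem (mul_mem (mul_mem ha ?_) ?_) ?_) (commutator_mem_commutator hc hc')
    · exact (mem_normalizer_iff.1 (hCR hc) b).1 hb
    · exact (mem_normalizer_iff.1 (hCR (mul_mem (mul_mem hc hc') (inv_mem hc))) _).1 (inv_mem ha)
    · exact (mem_normalizer_iff.1 (hCR (hC'S (commutator_mem_commutator hc hc'))) _).1 (inv_mem hb)
  have hC'n : C' ≤ normalizer (R : Set G) := (hC'S.trans inf_le_left).trans hRn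
  obtain ⟨s, hs, c, hc, hsc⟩ := (mem_sup_of_le_normalizer hC'n).1 (hsub hvcomm)
  have hSlt : S0 < H := lt_of_le_of_ne hS0H fun h => hnp (h ▸ hS0r)
  have hsD : s ∈ D x H := m.sub S0 hSlt hxS ⟨hs, by
    have : s = v * c⁻¹ := by rw [← hsc, mul_inv_cancel_right]
    rw [this]; exact (cent x).mul_mem hvx ((cent x).inv_mem (hC'S hc).2)⟩
  rw [← hsc]
  exact mul_mem hsD (hCC (commutator_mono (inf_le_inf_right _ hS0H) (inf_le_inf_right _ hS0H) hc))
where
  commutator_le_self' (A : Subgroup G) : ⁅A, A⁆ ≤ A :=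
    commutator_le.2 fun a ha b hb => mul_mem (mul_mem (mul_mem ha hb) (inv_mem ha)) (inv_mem hb)

end Cfsg.Lib.Flavell
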